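import Cfsg.Agent.LyAut84.Borel

/-!
The torus of order 16, the Borel subgroup of order 250000 and the exponents modulo the intersection
of the radicals.
-/

set_option autoImplicit false
set_option maxRecDepth 100000
set_option linter.style.haveILetI false

namespace CfsgLib.LyAut84

open CfsgLib.Ly33

attribute [local irreducible] mulP invP cparts glIx el xEl yEl zEl lwEl xIm yIm zIm lwIm sEl sIm gA gB gC gD oneP inC inPar tqIx tiIx r5Ix r5IIx trq

/-- the second torus generator -/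
noncomputable def tH : Hg := hA⁻¹ * hB⁻¹ * hA⁻¹ * hB * hB * hA⁻¹

/-- the torus -/
noncomputable def Tg : Subgroup Hg := Subgroup.closure {hA ^ 2, tH}

theorem tor_zero : tor 0 = 1 := by simp [tor]

theorem mem_Tg (x : Hg) : x ∈ Tg ↔ ∃ n < 16, x = tor n := by
  constructor
  · intro h
    rw [← Subgroup.mem_toSubmonoid, Tg, Subgroup.closure_toSubmonoid_of_finite] at h
    induction h using Submonoid.closure_induction_right with
    | one => exact ⟨0, by norm_num, tor_zero.symm⟩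
    | mul_right x _ g hg ih =>
      obtain ⟨n, hn, rfl⟩ := ih
      have h := allLt_spec torus_step n hn
      simp only [Bool.and_eq_true] at h
      have key : ∀ v, enc g = v → ((List.range 16).any fun k => Nat.beq
          (mulP (torP (n / 4) (n % 4)) v) (torP (k / 4) (k % 4))) = true →
          ∃ m < 16, tor n * g = tor m := by
        intro v hv hh
        obtain ⟨k, hk, e⟩ := List.any_eq_true.1 hh
        exact ⟨k, List.mem_range.1 hk, enc_inj (by
          rw [enc_mul, enc_tor, enc_tor, hv]; exact Nat.eq_of_beq_eq_true e)⟩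
      simp only [Set.mem_insert_iff, Set.mem_singleton_iff] at hg
      rcases hg with rfl | rfl
      · exact key _ (by rw [enc_pow, enc_A]) h.1
      · exact key _ (by simp only [tH, tP, enc_mul, enc_inv, enc_A, enc_B]) h.2.1
  · rintro ⟨n, -, rfl⟩
    exact mul_mem (pow_mem (Subgroup.subset_closure (by simp)) _)
      (pow_mem (Subgroup.subset_closure (by simp [tH])) _)

theorem tor_inj {n n' : ℕ} (hn : n < 16) (hn' : n' < 16) (h : tor n = tor n') : n = n' := by
  have h0 := allLt_spec (allLt_spec torus_distinct n hn) n' hn'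
  rw [← enc_tor, ← enc_tor, h, Nat.beq_refl, Bool.not_true, Bool.false_or] at h0
  exact Nat.eq_of_beq_eq_true h0

theorem card_Tg : Nat.card Tg = 16 := by
  let f : Fin 16 → Tg := fun n => ⟨tor n, (mem_Tg _).2 ⟨n, n.2, rfl⟩⟩
  have hf : Function.Bijective f := by
    refine ⟨fun n n' h => Fin.ext (tor_inj n.2 n'.2 (congrArg Subtype.val h)), ?_⟩
    rintro ⟨x, hx⟩
    obtain ⟨n, hn, rfl⟩ := (mem_Tg x).1 hx
    exact ⟨⟨n, hn⟩, rfl⟩
  rw [← Nat.card_congr (Equiv.ofBijective f hf)]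
  simp

theorem Tg_comm {x y : Hg} (hx : x ∈ Tg) (hy : y ∈ Tg) : Commute x y := by
  have h := torus_rels
  simp only [Bool.and_eq_true] at h
  have hc : Commute (hA ^ 2) tH := by
    show _ = _
    refine enc_inj ?_
    simp only [enc_mul, enc_pow, tH, enc_inv, enc_A, enc_B]
    exact Nat.eq_of_beq_eq_true h.1.1
  refine commute_of_cmt (Subgroup.mem_bot.1 (cmt_closure (K := ⊥) ?_ ?_ ?_ x hx y hy))
  · rintro k hk g -; rw [Subgroup.mem_bot.1 hk]; exact Commute.one_right g
  · rintro k hk g -; rw [Subgroup.mem_bot.1 hk]; exact Commute.one_right g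
  rintro a (rfl | rfl) b (rfl | rfl) <;> rw [Subgroup.mem_bot, cmt]
  · group
  · rw [hc.eq]; group
  · rw [hc.symm.eq]; group
  · group

theorem tor_mem_P1 {n : ℕ} (hn : n < 16) : tor n ∈ P1 := by
  refine mem_P1_of_inPar ?_
  have h := torus_rels
  simp only [Bool.and_eq_true] at h
  have h' := allLt_spec h.2 n hn
  rw [Bool.and_eq_true] at h'
  rw [enc_tor]; exact h'.2

theorem tor_norm {n : ℕ} (hn : n < 16) : NormS (tor n) := by
  refine normS_of (tor_mem_P1 hn) ?_
  have h := allLt_spec torus_step n hn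
  simp only [Bool.and_eq_true] at h
  rw [mem_S, enc_conj, enc_B, enc_tor]
  exact h.2.2.2.2

theorem tor_S {n : ℕ} (hn : n < 16) (h : tor n ∈ S) : n = 0 := by
  have h0 := torus_rels
  simp only [Bool.and_eq_true] at h0
  have h' := allLt_spec h0.2 n hn
  rw [← enc_tor, (mem_S _).1 h] at h'
  simp only [Bool.not_true, Bool.false_or, Bool.and_eq_true] at h'
  exact Nat.eq_of_beq_eq_true h'.1

/-- the Borel subgroup -/
noncomputable def Bg : Subgroup Hg where
  carrier := {p | p ∈ P1 ∧ NormS p}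
  one_mem' := ⟨one_mem _, fun x hx => by simpa using hx⟩
  mul_mem' := fun {a b} ha hb => ⟨mul_mem ha.1 hb.1, fun x hx => by
    have := hb.2 _ (ha.2 x hx)
    rwa [show b⁻¹ * (a⁻¹ * x * a) * b = (a * b)⁻¹ * x * (a * b) by group] at this⟩
  inv_mem' := fun {a} ha => ⟨inv_mem ha.1, fun x hx => by
    rw [inv_inv]
    exact (conj_mem_closure (fun g hg => ha.2 g (Subgroup.subset_closure hg)) x hx).2⟩

theorem S_le_Bg : S ≤ Bg := fun s hs =>
  ⟨S_le_P1 hs, fun x hx => mul_mem (mul_mem (inv_mem hs) hx) hs⟩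

theorem Tg_le_Bg : Tg ≤ Bg := fun t ht => by
  obtain ⟨n, hn, rfl⟩ := (mem_Tg t).1 ht
  exact ⟨tor_mem_P1 hn, tor_norm hn⟩

theorem card_Bg : Nat.card Bg = 250000 := by
  let f : S × Tg → Bg := fun v => ⟨(v.1 : Hg) * v.2, mul_mem (S_le_Bg v.1.2) (Tg_le_Bg v.2.2)⟩
  have hf : Function.Bijective f := by
    constructor
    · rintro ⟨s, t⟩ ⟨s', t'⟩ h
      have h' : (s : Hg) * t = s' * t' := congrArg Subtype.val h
      have h1 : (t : Hg) * (t' : Hg)⁻¹ ∈ S := by
        have e : (t : Hg) * (t' : Hg)⁻¹ = (s : Hg)⁻¹ * s' := by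
          rw [eq_inv_mul_iff_mul_eq, ← mul_assoc, h', mul_inv_cancel_right]
        rw [e]; exact mul_mem (inv_mem s.2) s'.2
      obtain ⟨n, hn, e⟩ := (mem_Tg _).1 (mul_mem t.2 (inv_mem t'.2))
      rw [e] at h1
      have h2 : (t : Hg) * (t' : Hg)⁻¹ = 1 := by
        rw [e, tor_S hn h1, tor_zero]
      have et : (t : Hg) = t' := mul_inv_eq_one.1 h2
      rw [et, mul_left_inj] at h'
      exact Prod.ext (Subtype.ext h') (Subtype.ext et)
    · rintro ⟨p, hp, hn⟩
      rcases borel_cases hp with ⟨-, s, hs, n, hn', rfl⟩ | ⟨h, -⟩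
      · exact ⟨(⟨s, hs⟩, ⟨tor n, (mem_Tg _).2 ⟨n, hn', rfl⟩⟩), rfl⟩
      · exact absurd hn h
  rw [← Nat.card_congr (Equiv.ofBijective f hf), Nat.card_prod, card_S, card_Tg]

/-- the element spanning with b the Sylow subgroup -/
noncomputable def x1 : Hg := qel 1 3 3 4 3

theorem enc_x1 : enc x1 = x1P :=
  enc_qel (by norm_num) (by norm_num) (by norm_num) (by norm_num) (by norm_num)

theorem x1_mem : x1 ∈ Q1 := (qel_mem _ _ _ _ _)

theorem tor_chars {n : ℕ} (hn : n < 16) : (tor n)⁻¹ * hB * tor n = hB ^ chiB n ∧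
    (tor n)⁻¹ * x1 * tor n = x1 ^ chiX n ∧ chiB n < 5 ∧ chiX n < 5 := by
  have h := allLt_spec torus_chars n hn
  have h2 := allLt_spec torus_step n hn
  simp only [Bool.and_eq_true] at h h2
  refine ⟨enc_inj ?_, enc_inj ?_, Nat.le_of_ble_eq_true h2.2.2.1, Nat.le_of_ble_eq_true h2.2.2.2.1⟩
  · rw [enc_conj, enc_pow, enc_B, enc_tor]; exact Nat.eq_of_beq_eq_true h.1.1
  · rw [enc_conj, enc_pow, enc_x1, enc_tor]; exact Nat.eq_of_beq_eq_true h.1.2

theorem chars_inj {n n' : ℕ} (hn : n < 16) (hn' : n' < 16) (hb : chiB n = chiB n')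
    (hx : chiX n = chiX n') : n = n' := by
  have h := allLt_spec torus_chars n hn
  simp only [Bool.and_eq_true] at h
  have h' := allLt_spec h.2 n' hn'
  simp only [hb, hx, Nat.beq_refl, Bool.and_self, Bool.not_true, Bool.false_or] at h'
  exact Nat.eq_of_beq_eq_true h'

theorem fix_facts : (tor 4)⁻¹ * hB * tor 4 = hB ∧ (tor 5)⁻¹ * x1 * tor 5 = x1 := by
  have h := x1_facts
  simp only [Bool.and_eq_true] at h
  constructor <;> refine enc_inj ?_
  · rw [enc_conj, enc_B, enc_tor]; exact Nat.eq_of_beq_eq_true h.2.1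
  · rw [enc_conj, enc_x1, enc_tor]; exact Nat.eq_of_beq_eq_true h.2.2

theorem D_fix {d : Hg} (hd : d ∈ D) :
    (Commute d (tor 4) → d = 1) ∧ (Commute d (tor 5) → d = 1) := by
  obtain ⟨a, ha, i, hi, j, hj, m, hm, rfl⟩ := (inD_iff_qel d).1 ((mem_D d).1 hd)
  have h := allLt_spec (allLt_spec (allLt_spec (allLt_spec torus_fix a ha) i hi) j hj) m hm
  simp only [Bool.and_eq_true, Bool.or_eq_true, Bool.not_eq_true'] at h
  rw [← enc_qel ha (by norm_num) hi hj hm] at h
  have key : ∀ t : Hg, ∀ v, enc t = v → Commute (qel a 0 i j m) t →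
      (com (enc (qel a 0 i j m)) v = false ∨ Nat.beq (enc (qel a 0 i j m)) oneP = true) →
      qel a 0 i j m = 1 := by
    intro t v hv hc ho
    rw [← hv, (com_iff _ _).2 hc] at ho
    exact enc_inj (by rw [enc_one]; exact Nat.eq_of_beq_eq_true (ho.resolve_left (by simp)))
  exact ⟨fun hc => key _ _ (enc_tor 4) hc h.1, fun hc => key _ _ (enc_tor 5) hc h.2⟩

theorem x1_five : x1 ^ 5 = 1 := pow_five_Q1 x1_mem

theorem x1_norm_D : ∀ d ∈ D, x1 * d * x1⁻¹ ∈ D ∧ x1⁻¹ * d * x1 ∈ D := by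
  intro d hd
  have h := x1_facts
  simp only [Bool.and_eq_true] at h
  have key := conj_mem_closure (s := dGens) (p := x1⁻¹) (fun g hg => by
    rw [inv_inv, ← D, mem_D, enc_mul, enc_mul, enc_inv, enc_x1]
    simp only [dGens, Set.mem_insert_iff, Set.mem_singleton_iff] at hg
    rcases hg with rfl | rfl | rfl | rfl <;> rw [enc_cg]
    · simpa using allLt_spec h.1.2.1 0 (by decide)
    · simpa using allLt_spec h.1.2.1 2 (by decide)
    · simpa using allLt_spec h.1.2.1 3 (by decide)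
    · simpa using allLt_spec h.1.2.1 4 (by decide)) d hd
  rw [inv_inv] at key
  exact key

theorem b_norm_D : ∀ d ∈ D, hB * d * hB⁻¹ ∈ D ∧ hB⁻¹ * d * hB ∈ D := by
  intro d hd
  have key := conj_mem_closure (s := dGens) (p := hB⁻¹) (fun g hg => by
    rw [inv_inv, ← D, mem_D, enc_mul, enc_mul, enc_inv, enc_B]
    simp only [dGens, Set.mem_insert_iff, Set.mem_singleton_iff] at hg
    rcases hg with rfl | rfl | rfl | rfl <;> rw [enc_cg] <;> decide +kernel) d hd
  rw [inv_inv] at key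
  exact key

theorem Q1_split {u : Hg} (hu : u ∈ Q1) : ∃ i < 5, u * x1 ^ i ∈ D := by
  have h := x1_facts
  simp only [Bool.and_eq_true] at h
  refine (mem_extend (s := dGens) x1_five (fun g hg => (x1_norm_D g (Subgroup.subset_closure hg)).1) u).1 ?_
  refine (Subgroup.closure_le _).2 ?_ hu
  rintro _ ⟨g, rfl⟩
  refine (mem_extend (s := dGens) x1_five (fun g hg => (x1_norm_D g (Subgroup.subset_closure hg)).1) _).2 ?_
  obtain ⟨i, hi, he⟩ := List.any_eq_true.1 (allLt_spec h.1.2.2 g.1 g.2)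
  exact ⟨i, List.mem_range.1 hi, (mem_D _).2 (by rw [enc_mul, enc_cg, enc_pow, enc_x1]; exact he)⟩

theorem five_of_pow_mem_D {x : Hg} (h5 : x ^ 5 = 1) (hx : x ∉ D) {e : ℕ} (h : x ^ e ∈ D) : e % 5 = 0 := by
  by_contra hne
  rw [pow_eq_pow_mod e h5] at h
  obtain ⟨k, hk, hk'⟩ : ∃ k < 5, e % 5 * k % 5 = 1 := by
    have hlt : e % 5 < 5 := Nat.mod_lt _ (by norm_num)
    have : ∀ e < 5, e ≠ 0 → ∃ k < 5, e * k % 5 = 1 := by decide
    exact this _ hlt hne
  have h2 := pow_mem h k
  rw [← pow_mul, pow_eq_pow_mod _ h5, hk', pow_one] at h2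
  exact hx h2

theorem hB_not_D : hB ∉ D := fun h => absurd (b_pow_not_Q1 (i := 1) (by norm_num) (by
  rw [pow_one]; exact ((mem_D_iff _).1 h).1)) one_ne_zero

theorem x1_not_D : x1 ∉ D := fun h => by
  rw [mem_D, enc_x1] at h
  revert h
  decide +kernel

/-- exponents modulo a subgroup normalised by an element -/
theorem pow_mod_normal {G : Type*} [Group G] {N : Subgroup G} {b : G}
    (hn : ∀ y ∈ N, b * y * b⁻¹ ∈ N) {d : G} (hd : d ∈ N) (k : ℕ) :
    ∀ n : ℕ, (d * b ^ k) ^ n * (b ^ (k * n))⁻¹ ∈ N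
  | 0 => by simp [one_mem]
  | n + 1 => by
    have hp : ∀ j : ℕ, ∀ y ∈ N, b ^ j * y * (b ^ j)⁻¹ ∈ N := by
      intro j
      induction j with
      | zero => intro y hy; simpa using hy
      | succ j ih =>
        intro y hy
        have := hn _ (ih y hy)
        rwa [show b * (b ^ j * y * (b ^ j)⁻¹) * b⁻¹ = b ^ (j + 1) * y * (b ^ (j + 1))⁻¹ by
          rw [pow_succ']; group] at this
    have h1 := pow_mod_normal hn hd k n
    have e : (d * b ^ k) ^ (n + 1) * (b ^ (k * (n + 1)))⁻¹ =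
        ((d * b ^ k) ^ n * (b ^ (k * n))⁻¹) * (b ^ (k * n) * d * (b ^ (k * n))⁻¹) := by
      rw [pow_succ, mul_add, mul_one, pow_add]; group
    rw [e]; exact mul_mem h1 (hp _ d hd)

end CfsgLib.LyAut84
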