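import Cfsg.Agent.LyAut84.Lines
import Cfsg.Agent.LyAut84.Torus

/-!
An automorphism fixing the Sylow subgroup for five of the presented Lyons group fixes the radicals,
the Borel subgroup and the first parabolic subgroup.
-/

set_option autoImplicit false
set_option maxRecDepth 100000
set_option linter.style.haveILetI false

namespace CfsgLib.LyAut84

open CfsgLib.Ly33 Cfsg.Spor

attribute [local irreducible] mulP invP cparts glIx el xEl yEl zEl lwEl xIm yIm zIm lwIm sEl sIm gA gB gC gD oneP inC inPar tqIx tiIx r5Ix r5IIx trq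

/-- fixing the Sylow subgroup -/
def FixS (θ : MulAut Cfsg.Spor.Ly) : Prop := (S.map phiLy).map θ.toMonoidHom = S.map phiLy

theorem FixS.symm {θ : MulAut Cfsg.Spor.Ly} (h : FixS θ) : FixS θ.symm := by
  unfold FixS at h ⊢
  conv_lhs => rw [← h, Subgroup.map_map]
  rw [show θ.symm.toMonoidHom.comp θ.toMonoidHom = MonoidHom.id _ from
    MonoidHom.ext fun x => θ.symm_apply_apply x, Subgroup.map_id]

theorem FixS.mem {θ : MulAut Cfsg.Spor.Ly} (h : FixS θ) {x : Hg} (hx : x ∈ S) :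
    ∃ y ∈ S, θ (phiLy x) = phiLy y := by
  have h' : θ (phiLy x) ∈ S.map phiLy := h.le ⟨_, ⟨x, hx, rfl⟩, rfl⟩
  obtain ⟨y, hy, e⟩ := h'
  exact ⟨y, hy, e.symm⟩

theorem FixS.pres {θ : MulAut Cfsg.Spor.Ly} (h : FixS θ) {x : Hg} :
    (x ∈ Q1 → ∃ y ∈ Q1, θ (phiLy x) = phiLy y) ∧ (x ∈ Q2 → ∃ y ∈ Q2, θ (phiLy x) = phiLy y) ∧
    (x ∈ W → ∃ y ∈ W, θ (phiLy x) = phiLy y) ∧ (x ∈ Z → ∃ y ∈ Z, θ (phiLy x) = phiLy y) := by
  have hθ : Function.Injective θ.toMonoidHom := θ.injective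
  refine ⟨fun hx => ?_, fun hx => ?_, fun hx => ?_, fun hx => ?_⟩
  · obtain ⟨y, -, e⟩ := h.mem (Q1_le_S hx)
    refine ⟨y, (pq1_iff y).1 ((pq1_map phiLy_injective S y).1 ?_), e⟩
    rw [← e, ← h]
    exact (pq1_map hθ _ _).2 ((pq1_map phiLy_injective S x).2 ((pq1_iff x).2 hx))
  · obtain ⟨y, -, e⟩ := h.mem (Q2_le_S hx)
    refine ⟨y, (pq2_iff y).1 ((pq2_map phiLy_injective S y).1 ?_), e⟩
    rw [← e, ← h]
    exact (pq2_map hθ _ _).2 ((pq2_map phiLy_injective S x).2 ((pq2_iff x).2 hx))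
  · obtain ⟨y, -, e⟩ := h.mem (Q1_le_S (W_le_Q1 hx))
    refine ⟨y, (pw_iff y).1 ((pw_map phiLy_injective S y).1 ?_), e⟩
    rw [← e, ← h]
    exact (pw_map hθ _ _).2 ((pw_map phiLy_injective S x).2 ((pw_iff x).2 hx))
  · obtain ⟨y, -, e⟩ := h.mem (Q1_le_S (Z_le_Q1 hx))
    refine ⟨y, (cen_iff y).1 ((cen_map phiLy_injective S y).1 ?_), e⟩
    rw [← e, ← h]
    exact (cen_map hθ _ _).2 ((cen_map phiLy_injective S x).2 ((cen_iff x).2 hx))

theorem FixS.pres_D {θ : MulAut Cfsg.Spor.Ly} (h : FixS θ) {x : Hg} (hx : x ∈ D) :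
    ∃ y ∈ D, θ (phiLy x) = phiLy y := by
  obtain ⟨h1, h2⟩ := (mem_D_iff x).1 hx
  obtain ⟨y, hy, e⟩ := h.pres.1 h1
  obtain ⟨y', hy', e'⟩ := h.pres.2.1 h2
  obtain rfl : y = y' := phiLy_injective (e.symm.trans e')
  exact ⟨y, (mem_D_iff y).2 ⟨hy, hy'⟩, e⟩

/-- normalising the Sylow subgroup in the big group -/
def NK (g : Cfsg.Spor.Ly) : Prop := FixS (MulAut.conj g)

theorem nk_of_normS {p : Hg} (hp : p ∈ Bg) : NK (phiLy p) := by
  haveI : Finite (S.map phiLy) :=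
    Finite.of_equiv _ (Subgroup.equivMapOfInjective S phiLy phiLy_injective).toEquiv
  haveI : Finite ((S.map phiLy).map (MulAut.conj (phiLy p)).toMonoidHom) :=
    Finite.of_equiv _ (Subgroup.equivMapOfInjective (S.map phiLy) _ (MulAut.conj (phiLy p)).injective).toEquiv
  refine Subgroup.eq_of_le_of_card_ge ?_ ?_
  · rintro _ ⟨_, ⟨x, hx, rfl⟩, rfl⟩
    refine ⟨p * x * p⁻¹, ?_, ?_⟩
    · have := (inv_mem hp : p⁻¹ ∈ Bg).2 x hx
      rwa [inv_inv] at this
    · show _ = phiLy p * phiLy x * (phiLy p)⁻¹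
      rw [map_mul, map_mul, map_inv]
  · exact le_of_eq (Nat.card_congr (Subgroup.equivMapOfInjective _ _
      (MulAut.conj (phiLy p)).injective).toEquiv)

theorem FixS.nk {θ : MulAut Cfsg.Spor.Ly} (h : FixS θ) {g : Cfsg.Spor.Ly} (hg : NK g) : NK (θ g) := by
  have hs : (S.map phiLy).map θ.symm.toMonoidHom = S.map phiLy := FixS.symm h
  unfold NK FixS at *
  have e : (MulAut.conj (θ g)).toMonoidHom = θ.toMonoidHom.comp ((MulAut.conj g).toMonoidHom.comp θ.symm.toMonoidHom) :=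
    MonoidHom.ext fun x => by
      show θ g * x * (θ g)⁻¹ = θ (g * θ.symm x * g⁻¹)
      rw [map_mul, map_mul, map_inv, θ.apply_symm_apply]
  rw [e, ← Subgroup.map_map, ← Subgroup.map_map, hs, hg, h]

section Exact

variable (hex : HL.index = 8835156)
include hex

theorem nk_Bg {g : Cfsg.Spor.Ly} (hg : NK g) : ∃ p ∈ Bg, g = phiLy p := by
  have h1 : ∀ x ∈ Q2, g * phiLy x * g⁻¹ ∈ Q2.map phiLy := fun x hx => by
    obtain ⟨y, hy, e⟩ := hg.pres.2.1 hx
    exact ⟨y, hy, e.symm⟩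
  obtain ⟨p, rfl⟩ := exists_of_mem (norm_Q2 hex h1)
  have hp : p ∈ P1 := P1_of_norm_Q1 fun x hx => by
    obtain ⟨y, hy, e⟩ := hg.pres.1 hx
    have e' : phiLy (p * x * p⁻¹) = phiLy y := by rw [map_mul, map_mul, map_inv]; exact e
    rw [phiLy_injective e']; exact hy
  have hn : p⁻¹ ∈ Bg := ⟨inv_mem hp, fun x hx => by
    obtain ⟨y, hy, e⟩ := hg.mem hx
    have e' : phiLy (p * x * p⁻¹) = phiLy y := by rw [map_mul, map_mul, map_inv]; exact e
    rw [inv_inv, phiLy_injective e']; exact hy⟩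
  exact ⟨p, inv_inv p ▸ inv_mem hn, rfl⟩

theorem tz_not_P1 {p : Hg} (hp : p ∈ P1) : tz ≠ phiLy p := by
  intro e
  obtain ⟨r, hr, hm⟩ := List.any_eq_true.1 (allLt_spec lines_moved 0 (by norm_num))
  rw [List.mem_range] at hr
  obtain ⟨x, hx, hxe⟩ := mem_OSet_oEl hr (show 1 < 5 by norm_num) (show 0 < 5 by norm_num)
  obtain ⟨u, hu, hue, hu2⟩ := cj_tz hex x (OSet_le hx)
  have h2 : u = p⁻¹ * x * p := phiLy_injective (by rw [← hu2, e, map_mul, map_mul, map_inv])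
  have h3 := (inO_iff u).2 (h2 ▸ P1_lines hp x hx)
  have h4 : cnj (enc u) (powP gB 0) = enc u := by
    rw [← enc_B, ← enc_pow, ← enc_conj]; simp
  rw [← hxe, ← hue, h4, h3] at hm
  simp at hm

theorem pres_tz_word {θ : MulAut Cfsg.Spor.Ly} (h : FixS θ) {r : ℕ} (hr : r ∈ [0, 1, 2, 3, 5])
    (hmem : ∀ k, Rv r * phiLy (hB ^ k) ∈ (P1.map phiLy).map θ.toMonoidHom)
    (hnorm : ∀ g ∈ (P1.map phiLy).map θ.toMonoidHom, ∀ x ∈ Q1, g * phiLy x * g⁻¹ ∈ Q1.map phiLy) :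
    ∃ p ∈ P1, ¬ NormS p ∧ phiLy p ∈ (P1.map phiLy).map θ.toMonoidHom := by
  have hprod : ∀ l, prodVal r l ∈ (P1.map phiLy).map θ.toMonoidHom := by
    intro l
    induction l with
    | nil => exact one_mem _
    | cons k l ih => exact mul_mem (hmem k) ih
  have hc := List.all_eq_true.1 prod_checks r hr
  rw [Bool.and_eq_true] at hc
  have hcj := cj_prod hex r (prodExps r)
  have hpres : Pres (prodVal r (prodExps r)) := by
    intro x hx
    obtain ⟨o, ho, a, ha, m, hm, e⟩ := OSet_form hx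
    obtain ⟨y, hy, e1, e2⟩ := hcj x (OSet_le hx)
    refine ⟨y, (inO_iff y).1 ?_, e2⟩
    rw [e1, e]
    exact allLt_spec (allLt_spec (allLt_spec hc.2 o ho) a ha) m hm
  obtain ⟨p, hp, e⟩ := pres_P1 hex (hnorm _ (hprod _)) hpres
  refine ⟨p, hp, fun hn => ?_, e ▸ hprod _⟩
  obtain ⟨y, hy, e1, e2⟩ := hcj w ((qel_mem _ _ _ _ _))
  have hw : w ∈ W := Subgroup.subset_closure (by simp)
  obtain ⟨y', hy', e'⟩ := (nk_of_normS (inv_mem (show p ∈ Bg from ⟨hp, hn⟩))).pres.2.2.1 hw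
  have hyy : y = y' := phiLy_injective (by
    rw [← e', ← e2, e, map_inv]; simp [MulAut.conj_apply])
  subst hyy
  have h5 : inW (act (prodSteps r) (enc w)) = true := by
    rw [show act (prodSteps r) (enc w) = enc y from e1.symm]; exact (mem_W y).1 hy'
  rw [enc_w] at h5
  simp [h5] at hc

theorem pres_P1_aut {θ : MulAut Cfsg.Spor.Ly} (h : FixS θ) {p : Hg} (hp : p ∈ P1) :
    ∃ p' ∈ P1, θ (phiLy p) = phiLy p' := by
  set K := (P1.map phiLy).map θ.toMonoidHom with hK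
  suffices hA' : phiLy hA ∈ K by
    have hle : P1.map phiLy ≤ K := by
      rw [Pg_eq, MonoidHom.map_closure, Subgroup.closure_le]
      have hS : ∀ s ∈ S, phiLy s ∈ K := fun s hs => by
        obtain ⟨y, hy, e⟩ := h.symm.mem hs
        refine ⟨θ.symm (phiLy s), ⟨y, S_le_P1 hy, e.symm⟩, ?_⟩
        exact θ.apply_symm_apply _
      rintro _ ⟨g, hg, rfl⟩
      simp only [Set.mem_insert_iff, Set.mem_singleton_iff] at hg
      rcases hg with rfl | rfl | rfl
      · exact hA'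
      · exact hS _ hB_mem_S
      · exact hS _ (Q1_le_S (cg_mem 0))
    haveI : Finite (P1.map phiLy) :=
      Finite.of_equiv _ (Subgroup.equivMapOfInjective P1 phiLy phiLy_injective).toEquiv
    haveI : Finite K := Finite.of_equiv _
      (Subgroup.equivMapOfInjective (P1.map phiLy) θ.toMonoidHom θ.injective).toEquiv
    have heq : P1.map phiLy = K := Subgroup.eq_of_le_of_card_ge hle (le_of_eq (Nat.card_congr
      (Subgroup.equivMapOfInjective (P1.map phiLy) θ.toMonoidHom θ.injective).toEquiv).symm)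
    have : θ (phiLy p) ∈ P1.map phiLy := heq ▸ ⟨_, ⟨p, hp, rfl⟩, rfl⟩
    obtain ⟨p', hp', e⟩ := this
    exact ⟨p', hp', e.symm⟩
  have hnorm : ∀ g ∈ K, ∀ x ∈ Q1, g * phiLy x * g⁻¹ ∈ Q1.map phiLy := by
    rintro _ ⟨_, ⟨q, hq, rfl⟩, rfl⟩ x hx
    obtain ⟨x0, hx0, e⟩ := h.symm.pres.1 hx
    obtain ⟨y, hy, e'⟩ := h.pres.1 (conj_Q1 hq x0 hx0).2
    refine ⟨y, hy, ?_⟩
    rw [← e']
    simp only [map_mul, map_inv, ← e, MulEquiv.apply_symm_apply]
    rfl
  have hBK : ∀ q ∈ Bg, phiLy q ∈ K := fun q hq => by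
    obtain ⟨q', hq', e⟩ := nk_Bg hex (h.symm.nk (nk_of_normS hq))
    exact ⟨θ.symm (phiLy q), ⟨q', hq'.1, e.symm⟩, θ.apply_symm_apply _⟩
  have hbK : ∀ k, phiLy (hB ^ k) ∈ K := fun k => hBK _ (pow_mem (S_le_Bg hB_mem_S) k)
  have finish : ∀ q ∈ P1, ¬ NormS q → phiLy q ∈ K → phiLy hA ∈ K := by
    intro q hq hn hqK
    rcases borel_cases hq with ⟨h', -⟩ | ⟨-, -, j, -, s, hs, hsn, rfl⟩
    · exact absurd h' hn
    · have h1 := mul_mem (mul_mem (inv_mem (hBK s ⟨hs, hsn⟩)) hqK) (inv_mem (hbK j))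
      rwa [← map_inv, ← map_mul, ← map_inv, ← map_mul,
        show s⁻¹ * (s * ab j) * (hB ^ j)⁻¹ = hA by rw [ab]; group] at h1
  have hA_n : ¬ NormS hA := fun hn => by
    have := (mem_S _).1 (hn hB hB_mem_S)
    rw [enc_conj, enc_B, enc_A] at this
    revert this
    decide +kernel
  have haK : θ (phiLy hA) ∈ K := ⟨_, ⟨hA, A_mem_P1, rfl⟩, rfl⟩
  rcases norm_Q1 hex (hnorm _ haK) with ⟨q, hq, e⟩ | ⟨q, hq, k, -, e⟩
  · refine finish q hq (fun hn => hA_n ?_) (e ▸ haK)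
    obtain ⟨q', hq', e'⟩ := nk_Bg hex (h.symm.nk (nk_of_normS (show q ∈ Bg from ⟨hq, hn⟩)))
    rw [← e, θ.symm_apply_apply] at e'
    rw [phiLy_injective e']; exact hq'.2
  have hRv : ∃ r, r ≤ 5 ∧ Rv r ∈ K := by
    have hmemK : phiLy q * tz ∈ K := by
      have := mul_mem (e ▸ haK : phiLy q * tz * phiLy (hB ^ k) ∈ K) (inv_mem (hbK k))
      rwa [mul_inv_cancel_right] at this
    rcases borel_cases hq with ⟨hn, -⟩ | ⟨-, -, j, hj, s, hs, hsn, rfl⟩
    · refine ⟨5, le_rfl, ?_⟩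
      have := mul_mem (inv_mem (hBK q ⟨hq, hn⟩)) hmemK
      rwa [inv_mul_cancel_left, show tz = Rv 5 from (if_pos rfl).symm] at this
    · refine ⟨j, hj.le, ?_⟩
      have := mul_mem (inv_mem (hBK s ⟨hs, hsn⟩)) hmemK
      rwa [map_mul, mul_assoc (phiLy s), inv_mul_cancel_left,
        show phiLy (ab j) * tz = Rv j from (if_neg hj.ne).symm] at this
  obtain ⟨r, hr, hrK⟩ := hRv
  rcases eq_or_ne r 4 with rfl | hr4
  · exfalso
    obtain ⟨_, ⟨p0, hp0, rfl⟩, e0⟩ := hrK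
    change θ (phiLy p0) = Rv 4 at e0
    rcases borel_cases hp0 with ⟨hn, -⟩ | ⟨-, hnc, -⟩
    · obtain ⟨q', hq', e'⟩ := nk_Bg hex (h.nk (nk_of_normS (show p0 ∈ Bg from ⟨hp0, hn⟩)))
      rw [e0, Rv, if_neg (by norm_num), ← eq_inv_mul_iff_mul_eq, ← map_inv, ← map_mul] at e'
      exact tz_not_P1 hex (mul_mem (inv_mem (mul_mem A_mem_P1 (pow_mem B_mem_P1 4))) hq'.1) e'
    · have hw : w ∈ W := Subgroup.subset_closure (by simp)
      obtain ⟨u, hu, eu⟩ := h.pres.2.2.1 hw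
      obtain ⟨v, hv, ev, ev2⟩ := cj_rep hex 4 u (W_le_Q1 hu)
      have hf := four_check
      simp only [Bool.and_eq_true] at hf
      obtain ⟨yw, -, eyw, eyw2⟩ := cj_rep hex 4 w ((qel_mem _ _ _ _ _))
      obtain ⟨yz, -, eyz, eyz2⟩ := cj_rep hex 4 (cg 4) (cg_mem 4)
      rw [enc_w] at eyw
      rw [enc_cg] at eyz
      have hcomm : ∀ a ∈ W, ∀ c ∈ W, Commute (phiLy a) ((Rv 4)⁻¹ * phiLy c * Rv 4) := by
        have base : ∀ a ∈ ({w, cg 4} : Set Hg), ∀ c ∈ ({w, cg 4} : Set Hg),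
            Commute (phiLy a) ((Rv 4)⁻¹ * phiLy c * Rv 4) := by
          rintro a (rfl | rfl) c (rfl | rfl)
          · rw [eyw2]; refine ((com_iff _ _).1 ?_).map phiLy; rw [enc_w, eyw]; exact hf.1
          · rw [eyz2]; refine ((com_iff _ _).1 ?_).map phiLy; rw [enc_w, eyz]; exact hf.2.1
          · rw [eyw2]; refine ((com_iff _ _).1 ?_).map phiLy; rw [enc_cg, eyw]; exact hf.2.2.1
          · rw [eyz2]; refine ((com_iff _ _).1 ?_).map phiLy; rw [enc_cg, eyz]; exact hf.2.2.2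
        intro a ha c hc
        induction ha using Subgroup.closure_induction with
        | mem a ha =>
          induction hc using Subgroup.closure_induction with
          | mem c hc => exact base a ha c hc
          | one => simp
          | mul c d _ _ i1 i2 =>
            rw [map_mul, show (Rv 4)⁻¹ * (phiLy c * phiLy d) * Rv 4 =
              ((Rv 4)⁻¹ * phiLy c * Rv 4) * ((Rv 4)⁻¹ * phiLy d * Rv 4) by group]
            exact i1.mul_right i2
          | inv c _ i1 =>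
            rw [map_inv, show (Rv 4)⁻¹ * (phiLy c)⁻¹ * Rv 4 = ((Rv 4)⁻¹ * phiLy c * Rv 4)⁻¹ by group]
            exact i1.inv_right
        | one => simp
        | mul a b _ _ i1 i2 => rw [map_mul]; exact i1.mul_left i2
        | inv a _ i1 => rw [map_inv]; exact i1.inv_left
      refine hnc (phiLy_injective (θ.injective ?_))
      have := hcomm u hu u hu
      rw [← eu, ← e0] at this
      simp only [map_mul, map_inv]
      exact this
  · have hlist : r ∈ [0, 1, 2, 3, 5] := by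
      rcases (show r = 0 ∨ r = 1 ∨ r = 2 ∨ r = 3 ∨ r = 5 by omega) with e | e | e | e | e <;> simp [e]
    obtain ⟨q2, hq2, hn2, hK2⟩ := pres_tz_word hex h hlist (fun k => mul_mem hrK (hbK k)) hnorm
    exact finish q2 hq2 hn2 hK2

end Exact

end CfsgLib.LyAut84
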