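import Cfsg.Agent.LyIndex33.Glue

/-!
Subgroups of the seven-dimensional matrix group of type G₂(5) with membership tests on codes: the
unipotent radicals, the Sylow subgroup for five and the parabolic subgroup.
-/

set_option autoImplicit false
set_option maxRecDepth 100000
set_option linter.style.haveILetI false

namespace CfsgLib.LyAut84

open CfsgLib.Ly33

attribute [local irreducible] mulP invP cparts glIx el xEl yEl zEl lwEl xIm yIm zIm lwIm sEl sIm gA gB gC gD oneP inC

/-- extending a normal subgroup by an element whose fifth power is one -/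
theorem mem_extend {G : Type*} [Group G] [Finite G] {s : Set G} {b : G} (h5 : b ^ 5 = 1)
    (hn : ∀ g ∈ s, b * g * b⁻¹ ∈ Subgroup.closure s) (x : G) :
    x ∈ Subgroup.closure (s ∪ {b}) ↔ ∃ i < 5, x * b ^ i ∈ Subgroup.closure s := by
  set N := Subgroup.closure s with hN
  have hconj : ∀ y ∈ N, b * y * b⁻¹ ∈ N := by
    have : N ≤ N.comap (MulAut.conj b).toMonoidHom := by
      conv_lhs => rw [hN]
      exact (Subgroup.closure_le _).2 fun g hg => hn g hg
    exact fun y hy => this hy
  have hpow : ∀ n : ℕ, ∀ y ∈ N, b ^ n * y * (b ^ n)⁻¹ ∈ N := by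
    intro n
    induction n with
    | zero => intro y hy; simpa using hy
    | succ n ih =>
      intro y hy
      have := hconj _ (ih y hy)
      rwa [show b * (b ^ n * y * (b ^ n)⁻¹) * b⁻¹ = b ^ (n + 1) * y * (b ^ (n + 1))⁻¹ by
        rw [pow_succ']; group] at this
  have hinv : ∀ i, i ≤ 5 → (b ^ i)⁻¹ = b ^ (5 - i) := fun i hi =>
    inv_eq_of_mul_eq_one_right (by rw [← pow_add, Nat.add_sub_cancel' hi, h5])
  constructor
  · intro hx
    rw [← Subgroup.mem_toSubmonoid, Subgroup.closure_toSubmonoid_of_finite] at hx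
    induction hx using Submonoid.closure_induction_right with
    | one => exact ⟨0, by norm_num, by simp [one_mem]⟩
    | mul_right x _ g hg ih =>
      obtain ⟨i, hi, hxi⟩ := ih
      rcases hg with hg | hg
      · refine ⟨i, hi, ?_⟩
        have e : x * g * b ^ i = x * b ^ i * (b ^ (5 - i) * g * (b ^ (5 - i))⁻¹) := by
          rw [← hinv i hi.le, inv_inv]; group
        rw [e]
        exact mul_mem hxi (hpow _ _ (Subgroup.subset_closure hg))
      · rw [Set.mem_singleton_iff] at hg
        subst hg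
        refine ⟨(i + 4) % 5, Nat.mod_lt _ (by norm_num), ?_⟩
        rw [mul_assoc, ← pow_succ', show g ^ ((i + 4) % 5 + 1) = g ^ i by
          rw [pow_eq_pow_mod ((i + 4) % 5 + 1) h5, pow_eq_pow_mod i h5]; congr 1; omega]
        exact hxi
  · rintro ⟨i, -, h⟩
    have hb : b ∈ Subgroup.closure (s ∪ {b}) := Subgroup.subset_closure (Or.inr rfl)
    have hx : x * b ^ i ∈ Subgroup.closure (s ∪ {b}) := Subgroup.closure_mono Set.subset_union_left h
    simpa using mul_mem hx (inv_mem (pow_mem hb i))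

theorem enc_pow (x : Hg) : ∀ n : ℕ, enc (x ^ n) = powP (enc x) n
  | 0 => by rw [pow_zero]; exact enc_one
  | n + 1 => by rw [pow_succ, enc_mul, enc_pow x n]; rfl

/-- the five generators of the radical -/
noncomputable def cg : Fin 5 → Hg :=
  ![hC, LyCover50.wc2 hA hC, LyCover50.wc3 hB hC, LyCover50.wc4 hB hC, LyCover50.wc5 hA hC]

theorem enc_cg : ∀ i : Fin 5, enc (cg i) = sEl i.1 := by
  intro i
  fin_cases i
  exacts [enc_s0, enc_s1, enc_s2, enc_s3, enc_s4]

/-- normal forms -/
noncomputable def qel (a b i j m : ℕ) : Hg :=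
  cg 0 ^ a * cg 1 ^ b * (cg 2 ^ i * cg 3 ^ j) * cg 4 ^ m

/-- codes of normal forms -/
def qcode (a b i j m : ℕ) : ℕ := mulP (mulP (xEl (5 * a + b)) (yEl (5 * i + j))) (zEl m)

theorem enc_qel {a b i j m : ℕ} (ha : a < 5) (hb : b < 5) (hi : i < 5) (hj : j < 5) (hm : m < 5) :
    enc (qel a b i j m) = qcode a b i j m := by
  have ht := tables_ok
  simp only [tablesOK, Bool.and_eq_true] at ht
  have h1 := allLt_spec ht.1 a ha
  have h2 := allLt_spec ht.1 i hi
  have h3 := allLt_spec ht.1 m hm
  simp only [Bool.and_eq_true] at h1 h2 h3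
  have h1' := allLt_spec h1.1 b hb
  have h2' := allLt_spec h2.1 j hj
  simp only [Bool.and_eq_true] at h1' h2'
  rw [qcode, Nat.eq_of_beq_eq_true h1'.1.1, Nat.eq_of_beq_eq_true h2'.2.1,
    Nat.eq_of_beq_eq_true h3.2.1, qel]
  simp only [enc_mul, enc_pow, enc_cg]
  rfl

/-- test for the radical of order 5 ^ 5 -/
def inU (n : ℕ) : Bool := inC n && Nat.beq (cparts n).2.2.2 0

/-- test for the intersection of the two radicals -/
def inD (n : ℕ) : Bool := inU n && Nat.beq ((cparts n).1 % 5) 0

/-- test for the centre -/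
def inZ (n : ℕ) : Bool := inU n && (Nat.beq (cparts n).1 0 && Nat.beq (cparts n).2.1 0)

/-- test for the second centre -/
def inW (n : ℕ) : Bool :=
  inU n && (Nat.beq ((cparts n).1 % 5) 0 &&
    Nat.beq (cparts n).2.1 (5 * (2 * ((cparts n).1 / 5) % 5) + 2 * ((cparts n).1 / 5) % 5))

/-- extension by the powers of b -/
def withB (t : ℕ → Bool) (n : ℕ) : Bool :=
  let rec go : ℕ → Bool
    | 0 => false
    | k + 1 => t (mulP n (powP gB k)) || go k
  go 5

theorem qel_facts : allLt (fun a => allLt (fun b => allLt (fun i => allLt (fun j => allLt (fun m =>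
    let n := qcode a b i j m
    let p := cparts n
    inC n && (Nat.beq p.1 (5 * a + b) && (Nat.beq p.2.1 (5 * i + j) && (Nat.beq p.2.2.1 m &&
      Nat.beq p.2.2.2 0)))) 5) 5) 5) 5) 5 = true := by
  decide +kernel

theorem qel_parts {a b i j m : ℕ} (ha : a < 5) (hb : b < 5) (hi : i < 5) (hj : j < 5) (hm : m < 5) :
    inU (enc (qel a b i j m)) = true ∧ (cparts (enc (qel a b i j m))).1 = 5 * a + b ∧
      (cparts (enc (qel a b i j m))).2.1 = 5 * i + j := by
  have h := allLt_spec (allLt_spec (allLt_spec (allLt_spec (allLt_spec qel_facts a ha) b hb) i hi) j hj) m hm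
  rw [enc_qel ha hb hi hj hm]
  simp only [Bool.and_eq_true] at h
  obtain ⟨h1, h2, h3, -, h5⟩ := h
  exact ⟨by simp [inU, h1, h5], Nat.eq_of_beq_eq_true h2, Nat.eq_of_beq_eq_true h3⟩

theorem qel_of_inU {x : Hg} (h : inU (enc x) = true) : ∃ a < 5, ∃ b < 5, ∃ i < 5, ∃ j < 5, ∃ m < 5,
    x = qel a b i j m := by
  simp only [inU, Bool.and_eq_true] at h
  obtain ⟨⟨h1, h2, h3, h4⟩, e⟩ := inC_spec h.1
  have h0 := Nat.eq_of_beq_eq_true h.2
  rcases hp : cparts (enc x) with ⟨i, j, m, L⟩
  simp only [hp] at h1 h2 h3 h4 e h0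
  subst h0
  refine ⟨i / 5, by omega, i % 5, by omega, j / 5, by omega, j % 5, by omega, m, h3, enc_inj ?_⟩
  rw [enc_qel (by omega) (by omega) (by omega) (by omega) h3, e, qcode, Nat.div_add_mod,
    Nat.div_add_mod, pEl]
  simp only [levi_zero]
  exact mulP_one (xyz_mem h1 h2 h3)

/-- the radical of order 5 ^ 5 of the first parabolic subgroup -/
noncomputable def Q1 : Subgroup Hg := Subgroup.closure (Set.range cg)

theorem cg_mem (i : Fin 5) : cg i ∈ Q1 := Subgroup.subset_closure ⟨i, rfl⟩

theorem qel_mem (a b i j m : ℕ) : qel a b i j m ∈ Q1 :=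
  mul_mem (mul_mem (mul_mem (pow_mem (cg_mem _) a) (pow_mem (cg_mem _) b))
    (mul_mem (pow_mem (cg_mem _) i) (pow_mem (cg_mem _) j))) (pow_mem (cg_mem _) m)

theorem mem_Q1 (x : Hg) : x ∈ Q1 ↔ inU (enc x) = true := by
  constructor
  · intro h
    rw [← Subgroup.mem_toSubmonoid, Q1, Subgroup.closure_toSubmonoid_of_finite] at h
    have h' : x ∈ Submonoid.closure {s : Hg | ∃ g < 5, enc s = sEl g} :=
      Submonoid.closure_mono (by rintro _ ⟨i, rfl⟩; exact ⟨i.1, i.2, enc_cg i⟩) h
    obtain ⟨i, j, m, hi, hj, hm, e⟩ := uset_closure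
      (x := 1) ⟨0, 0, 0, by norm_num, by norm_num, by norm_num, enc_one.trans (by decide +kernel)⟩ h'
    rw [one_mul] at e
    have h1 : x = qel (i / 5) (i % 5) (j / 5) (j % 5) m := enc_inj (by
      rw [e, enc_qel (by omega) (by omega) (by omega) (by omega) hm, qcode, Nat.div_add_mod,
        Nat.div_add_mod])
    rw [h1]
    exact (qel_parts (by omega) (by omega) (by omega) (by omega) hm).1
  · intro h
    obtain ⟨a, -, b, -, i, -, j, -, m, -, rfl⟩ := qel_of_inU h
    exact (qel_mem _ _ _ _ _)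

/-- the generators of the intersection of the radicals -/
noncomputable def dGens : Set Hg := {cg 0, cg 2, cg 3, cg 4}

/-- the intersection of the radicals -/
noncomputable def D : Subgroup Hg := Subgroup.closure dGens

theorem d_step : allLt (fun a => allLt (fun i => allLt (fun j => allLt (fun m =>
    let n := qcode a 0 i j m
    inD (mulP n (sEl 0)) && (inD (mulP n (sEl 2)) && (inD (mulP n (sEl 3)) && inD (mulP n (sEl 4)))))
      5) 5) 5) 5 = true := by
  decide +kernel

theorem inD_iff_qel (x : Hg) : inD (enc x) = true ↔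
    ∃ a < 5, ∃ i < 5, ∃ j < 5, ∃ m < 5, x = qel a 0 i j m := by
  constructor
  · intro h
    simp only [inD, Bool.and_eq_true] at h
    obtain ⟨a, ha, b, hb, i, hi, j, hj, m, hm, rfl⟩ := qel_of_inU h.1
    have e := Nat.eq_of_beq_eq_true h.2
    rw [(qel_parts ha hb hi hj hm).2.1] at e
    obtain rfl : b = 0 := by omega
    exact ⟨a, ha, i, hi, j, hj, m, hm, rfl⟩
  · rintro ⟨a, ha, i, hi, j, hj, m, hm, rfl⟩
    obtain ⟨h1, h2, -⟩ := qel_parts ha (show 0 < 5 by norm_num) hi hj hm
    simp [inD, h1, h2]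

theorem mem_D (x : Hg) : x ∈ D ↔ inD (enc x) = true := by
  constructor
  · intro h
    rw [← Subgroup.mem_toSubmonoid, D, Subgroup.closure_toSubmonoid_of_finite] at h
    induction h using Submonoid.closure_induction_right with
    | one => rw [enc_one]; decide +kernel
    | mul_right x _ g hg ih =>
      obtain ⟨a, ha, i, hi, j, hj, m, hm, rfl⟩ := (inD_iff_qel x).1 ih
      have h := allLt_spec (allLt_spec (allLt_spec (allLt_spec d_step a ha) i hi) j hj) m hm
      simp only [Bool.and_eq_true] at h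
      rw [enc_mul, enc_qel ha (by norm_num) hi hj hm]
      simp only [dGens, Set.mem_insert_iff, Set.mem_singleton_iff] at hg
      rcases hg with rfl | rfl | rfl | rfl <;> rw [enc_cg]
      exacts [h.1, h.2.1, h.2.2.1, h.2.2.2]
  · intro h
    obtain ⟨a, -, i, -, j, -, m, -, rfl⟩ := (inD_iff_qel x).1 h
    have hg : ∀ {g}, g ∈ dGens → g ∈ D := fun h => Subgroup.subset_closure h
    refine mul_mem (mul_mem (mul_mem (pow_mem (hg (by simp [dGens])) a) (by simp [one_mem]))
      (mul_mem (pow_mem (hg (by simp [dGens])) i) (pow_mem (hg (by simp [dGens])) j))) (pow_mem (hg (by simp [dGens])) m)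

/-- the second centre generator -/
noncomputable def w : Hg := qel 1 0 2 2 0

/-- the centre -/
noncomputable def Z : Subgroup Hg := Subgroup.closure {cg 4}

/-- the second centre -/
noncomputable def W : Subgroup Hg := Subgroup.closure {w, cg 4}

theorem z_step : allLt (fun m => inZ (mulP (qcode 0 0 0 0 m) (sEl 4))) 5 = true := by decide +kernel

theorem w_step : allLt (fun a => allLt (fun m =>
    let n := qcode a 0 (2 * a % 5) (2 * a % 5) m
    inW (mulP n (qcode 1 0 2 2 0)) && inW (mulP n (sEl 4))) 5) 5 = true := by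
  decide +kernel

theorem inW_iff_qel (x : Hg) : inW (enc x) = true ↔
    ∃ a < 5, ∃ m < 5, x = qel a 0 (2 * a % 5) (2 * a % 5) m := by
  constructor
  · intro h
    simp only [inW, Bool.and_eq_true] at h
    obtain ⟨a, ha, b, hb, i, hi, j, hj, m, hm, rfl⟩ := qel_of_inU h.1
    obtain ⟨-, p1, p2⟩ := qel_parts ha hb hi hj hm
    have e := Nat.eq_of_beq_eq_true h.2.1
    have e2 := Nat.eq_of_beq_eq_true h.2.2
    rw [p1] at e e2
    rw [p2] at e2
    obtain rfl : b = 0 := by omega
    rw [show (5 * a + 0) / 5 = a by omega] at e2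
    obtain ⟨rfl, rfl⟩ : i = 2 * a % 5 ∧ j = 2 * a % 5 := by omega
    exact ⟨a, ha, m, hm, rfl⟩
  · rintro ⟨a, ha, m, hm, rfl⟩
    obtain ⟨h1, h2, h3⟩ := qel_parts ha (show 0 < 5 by norm_num) (i := 2 * a % 5) (j := 2 * a % 5)
      (by omega) (by omega) hm
    have e : (5 * a + 0) / 5 = a := by omega
    simp [inW, h1, h2, h3, e]

theorem mem_W (x : Hg) : x ∈ W ↔ inW (enc x) = true := by
  constructor
  · intro h
    rw [← Subgroup.mem_toSubmonoid, W, Subgroup.closure_toSubmonoid_of_finite] at h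
    induction h using Submonoid.closure_induction_right with
    | one => rw [enc_one]; decide +kernel
    | mul_right x _ g hg ih =>
      obtain ⟨a, ha, m, hm, rfl⟩ := (inW_iff_qel x).1 ih
      have h := allLt_spec (allLt_spec w_step a ha) m hm
      simp only [Bool.and_eq_true] at h
      rw [enc_mul, enc_qel ha (by norm_num) (by omega) (by omega) hm]
      simp only [Set.mem_insert_iff, Set.mem_singleton_iff] at hg
      rcases hg with rfl | rfl
      · rw [w, enc_qel (by norm_num) (by norm_num) (by norm_num) (by norm_num) (by norm_num)]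
        exact h.1
      · rw [enc_cg]; exact h.2
  · intro h
    obtain ⟨a, ha, m, hm, rfl⟩ := (inW_iff_qel x).1 h
    have hz : cg 4 ∈ W := Subgroup.subset_closure (by simp)
    have hw : w ∈ W := Subgroup.subset_closure (by simp)
    have key : ∀ a < 5, ∃ k < 5, qel a 0 (2 * a % 5) (2 * a % 5) 0 * cg 4 ^ k = w ^ a := by
      intro a ha
      have hd : allLt (fun a => (List.range 5).any fun k => Nat.beq
          (mulP (qcode a 0 (2 * a % 5) (2 * a % 5) 0) (powP (sEl 4) k))
          (powP (qcode 1 0 2 2 0) a)) 5 = true := by decide +kernel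
      obtain ⟨k, hk, he⟩ := List.any_eq_true.1 (allLt_spec hd a ha)
      refine ⟨k, List.mem_range.1 hk, enc_inj ?_⟩
      rw [enc_mul, enc_pow, enc_pow, enc_qel ha (by norm_num) (by omega) (by omega) (by norm_num),
        w, enc_qel (by norm_num) (by norm_num) (by norm_num) (by norm_num) (by norm_num), enc_cg]
      exact Nat.eq_of_beq_eq_true he
    obtain ⟨k, -, hk⟩ := key a ha
    have e : qel a 0 (2 * a % 5) (2 * a % 5) m = qel a 0 (2 * a % 5) (2 * a % 5) 0 * cg 4 ^ m := by
      simp [qel]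
    have h0 : qel a 0 (2 * a % 5) (2 * a % 5) 0 = w ^ a * (cg 4 ^ k)⁻¹ := eq_mul_inv_of_mul_eq hk
    rw [e, h0]
    exact mul_mem (mul_mem (pow_mem hw a) (inv_mem (pow_mem hz k))) (pow_mem hz m)

theorem mem_Z (x : Hg) : x ∈ Z ↔ inZ (enc x) = true := by
  constructor
  · intro h
    rw [← Subgroup.mem_toSubmonoid, Z, Subgroup.closure_toSubmonoid_of_finite] at h
    induction h using Submonoid.closure_induction_right with
    | one => rw [enc_one]; decide +kernel
    | mul_right x _ g hg ih =>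
      simp only [inZ, Bool.and_eq_true] at ih
      obtain ⟨a, ha, b, hb, i, hi, j, hj, m, hm, rfl⟩ := qel_of_inU ih.1
      obtain ⟨-, p1, p2⟩ := qel_parts ha hb hi hj hm
      have e := Nat.eq_of_beq_eq_true ih.2.1
      have e2 := Nat.eq_of_beq_eq_true ih.2.2
      rw [p1] at e; rw [p2] at e2
      obtain ⟨rfl, rfl⟩ : a = 0 ∧ b = 0 := by omega
      obtain ⟨rfl, rfl⟩ : i = 0 ∧ j = 0 := by omega
      rw [Set.mem_singleton_iff] at hg
      subst hg
      rw [enc_mul, enc_qel ha hb hi hj hm, enc_cg]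
      exact allLt_spec z_step m hm
  · intro h
    simp only [inZ, Bool.and_eq_true] at h
    obtain ⟨a, ha, b, hb, i, hi, j, hj, m, hm, rfl⟩ := qel_of_inU h.1
    obtain ⟨-, p1, p2⟩ := qel_parts ha hb hi hj hm
    have e := Nat.eq_of_beq_eq_true h.2.1
    have e2 := Nat.eq_of_beq_eq_true h.2.2
    rw [p1] at e; rw [p2] at e2
    obtain ⟨rfl, rfl⟩ : a = 0 ∧ b = 0 := by omega
    obtain ⟨rfl, rfl⟩ : i = 0 ∧ j = 0 := by omega
    have hz : cg 4 ∈ Z := Subgroup.subset_closure rfl
    simpa [qel] using pow_mem hz m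

/-- the Sylow subgroup for five -/
noncomputable def S : Subgroup Hg := Subgroup.closure (Set.range cg ∪ {hB})

/-- the other radical of order 5 ^ 5 -/
noncomputable def Q2 : Subgroup Hg := Subgroup.closure (dGens ∪ {hB})

theorem b_five : hB ^ 5 = 1 := enc_inj (by rw [enc_pow, enc_B, enc_one]; decide +kernel)

theorem b_conj_codes : allLt (fun g => inU (mulP (mulP gB (sEl g)) (invP gB)) &&
    (Nat.beq g 1 || inD (mulP (mulP gB (sEl g)) (invP gB)))) 5 = true := by decide +kernel

theorem withB_iff (t : ℕ → Bool) (x : Hg) :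
    withB t (enc x) = true ↔ ∃ i < 5, t (enc (x * hB ^ i)) = true := by
  simp only [withB, withB.go, Bool.or_eq_true, Bool.false_eq_true, or_false, enc_mul, enc_pow, enc_B]
  constructor
  · rintro (h | h | h | h | h)
    exacts [⟨4, by norm_num, h⟩, ⟨3, by norm_num, h⟩, ⟨2, by norm_num, h⟩, ⟨1, by norm_num, h⟩,
      ⟨0, by norm_num, h⟩]
  · rintro ⟨i, hi, h⟩
    interval_cases i
    exacts [.inr (.inr (.inr (.inr h))), .inr (.inr (.inr (.inl h))), .inr (.inr (.inl h)),
      .inr (.inl h), .inl h]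

theorem mem_S (x : Hg) : x ∈ S ↔ withB inU (enc x) = true := by
  rw [S, mem_extend b_five, withB_iff]
  · exact exists_congr fun i => and_congr_right fun _ => mem_Q1 _
  · rintro _ ⟨g, rfl⟩
    rw [← Q1, mem_Q1, enc_mul, enc_mul, enc_inv, enc_B, enc_cg]
    have h := allLt_spec b_conj_codes g.1 g.2
    rw [Bool.and_eq_true] at h
    exact h.1

theorem mem_Q2 (x : Hg) : x ∈ Q2 ↔ withB inD (enc x) = true := by
  rw [Q2, mem_extend b_five, withB_iff]
  · exact exists_congr fun i => and_congr_right fun _ => mem_D _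
  · intro g hg
    rw [← D, mem_D, enc_mul, enc_mul, enc_inv, enc_B]
    simp only [dGens, Set.mem_insert_iff, Set.mem_singleton_iff] at hg
    rcases hg with rfl | rfl | rfl | rfl <;> rw [enc_cg] <;> decide +kernel

/-- the first parabolic subgroup -/
noncomputable def P1 : Subgroup Hg := Pg.subgroupOf Hg

theorem mem_P1 (x : Hg) : x ∈ P1 ↔ ∃ c ∈ Cset, ∃ i < 5, x = c * r5H i :=
  Subgroup.mem_subgroupOf.trans pset_eq.symm

theorem mem_P1_of_inPar {x : Hg} (h : inPar (enc x) = true) : x ∈ P1 :=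
  Subgroup.mem_subgroupOf.2 (pset_eq.1 (inPar_spec h))

end CfsgLib.LyAut84
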