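import Cfsg.Agent.LyAut84.Basic

/-!
The action on the 3906 cosets of the parabolic subgroup, read off the transversal table, and the
elements normalising the two radicals.
-/

set_option autoImplicit false
set_option maxRecDepth 100000
set_option linter.style.haveILetI false

namespace CfsgLib.LyAut84

open CfsgLib.Ly33 CfsgLib.CosetEnum

attribute [local irreducible] mulP invP cparts glIx el xEl yEl zEl lwEl xIm yIm zIm lwIm sEl sIm gA gB gC gD oneP inC inPar trq tqIx tiIx r5Ix r5IIx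

theorem ofDom_bij : Function.Bijective ofDom :=
  (Nat.bijective_iff_surjective_and_card ofDom).2 ⟨ofDom_surj, card_dom.trans card_Hg.symm⟩

theorem coset_unique {s s' : Hg} (hs : s ∈ P1) (hs' : s' ∈ P1) {q q' : ℕ} (hq : q < 3906) (hq' : q' < 3906)
    (h : s * tqH q = s' * tqH q') : q = q' := by
  obtain ⟨c, ⟨⟨i, j, m, L⟩, hp, e⟩, r, hr, rfl⟩ := (mem_P1 s).1 hs
  obtain ⟨c', ⟨⟨i', j', m', L'⟩, hp', e'⟩, r', hr', rfl⟩ := (mem_P1 s').1 hs'
  have k1 : c = cEl (i, j, m, L) hp := enc_inj (e.trans (cEl_spec _ hp).1.symm)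
  have k2 : c' = cEl (i', j', m', L') hp' := enc_inj (e'.trans (cEl_spec _ hp').1.symm)
  have := @ofDom_bij.1
    ((⟨i, hp.1⟩, ⟨j, hp.2.1⟩, ⟨m, hp.2.2.1⟩, ⟨L, hp.2.2.2⟩), ⟨r, hr⟩, ⟨q, hq⟩)
    ((⟨i', hp'.1⟩, ⟨j', hp'.2.1⟩, ⟨m', hp'.2.2.1⟩, ⟨L', hp'.2.2.2⟩), ⟨r', hr'⟩, ⟨q', hq'⟩)
    (by subst k1 k2; exact h)
  exact congrArg (fun z : Dom => z.2.2.1) this

/-- the generators as letters -/
noncomputable def gl : ℕ → Hg
  | 0 => hA
  | 1 => hB
  | 2 => hC
  | _ => hD

/-- image of a point under a word -/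
def runQ (q : ℕ) : List ℕ → ℕ
  | [] => q
  | x :: w => runQ (trq (4 * q + Nat.min x 3)) w

theorem step_point {q : ℕ} (hq : q < 3906) (x : ℕ) :
    trq (4 * q + Nat.min x 3) < 3906 ∧
      ∃ s ∈ P1, tqH q * gl x = s * tqH (trq (4 * q + Nat.min x 3)) := by
  obtain ⟨h1, -, hlt, a, b, c, d⟩ := tqH_spec hq
  have step : ∀ (g : Hg) (v k : ℕ), k < 4 → enc g = v →
      inPar (mulP (mulP (tq q) v) (ti (trq (4 * q + k)))) = true →
      trq (4 * q + k) < 3906 ∧ ∃ s ∈ P1, tqH q * g = s * tqH (trq (4 * q + k)) := by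
    intro g v k hk hv hp
    obtain ⟨-, h2, -⟩ := tqH_spec (hlt k hk)
    refine ⟨hlt k hk, tqH q * g * (tqH (trq (4 * q + k)))⁻¹, mem_P1_of_inPar ?_, by group⟩
    rw [enc_mul, enc_mul, h1, hv, h2]
    exact hp
  match x with
  | 0 => exact step hA _ 0 (by norm_num) enc_A a
  | 1 => exact step hB _ 1 (by norm_num) enc_B b
  | 2 => exact step hC _ 2 (by norm_num) enc_C c
  | x + 3 =>
    rw [show Nat.min (x + 3) 3 = 3 from Nat.min_eq_right (by omega), show gl (x + 3) = hD from rfl]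
    exact step hD _ 3 (by norm_num) enc_D d

theorem runQ_spec : ∀ (w : List ℕ) {q : ℕ}, q < 3906 →
    runQ q w < 3906 ∧ ∃ s ∈ P1, tqH q * gword gl w = s * tqH (runQ q w)
  | [], q, hq => ⟨hq, 1, one_mem _, by rw [gword_nil, mul_one, one_mul]; rfl⟩
  | x :: w, q, hq => by
    obtain ⟨h1, s, hs, he⟩ := step_point hq x
    obtain ⟨h2, s', hs', he'⟩ := runQ_spec w h1
    exact ⟨h2, s * s', mul_mem hs hs', by rw [gword_cons, ← mul_assoc, he, mul_assoc, he', mul_assoc]; rfl⟩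

/-- a point fixed by a conjugate inside the parabolic subgroup -/
theorem runQ_fixed {q : ℕ} (hq : q < 3906) {w : List ℕ}
    (h : tqH q * gword gl w * (tqH q)⁻¹ ∈ P1) : runQ q w = q := by
  obtain ⟨h1, s, hs, he⟩ := runQ_spec w hq
  refine (coset_unique hs h h1 hq ?_)
  rw [← he]; group

/-- the code of a word -/
def wcode : List ℕ → ℕ
  | [] => oneP
  | x :: w => mulP (match x with | 0 => gA | 1 => gB | 2 => gC | _ => gD) (wcode w)

theorem enc_gl_word : ∀ w : List ℕ, enc (gword gl w) = wcode w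
  | [] => by rw [gword_nil]; exact enc_one
  | x :: w => by
    rw [gword_cons, enc_mul, enc_gl_word w]
    rcases x with _ | _ | _ | x <;> simp only [gl, wcode, enc_A, enc_B, enc_C, enc_D]

/-- words for the first four generators of the radical -/
def cWords : List (List ℕ) := [[2], [0,0,0,0,0,0,0,2,0], [1,1,1,1,2,1], [1,2,1,1,1,1]]

/-- words for generators of the other radical -/
def q2Words : List (List ℕ) := [[1], [2], [1,1,1,1,2,1], [1,2,1,1,1,1]]

theorem cWords_ok : (cWords.all fun w => inU (wcode w)) = true := by decide +kernel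

theorem q2Words_ok : (q2Words.all fun w => withB inD (wcode w)) = true := by decide +kernel

theorem Q1_le_P1 : Q1 ≤ P1 := by
  refine (Subgroup.closure_le _).2 ?_
  rintro _ ⟨i, rfl⟩
  refine mem_P1_of_inPar ?_
  rw [enc_cg]
  fin_cases i <;> decide +kernel

theorem Q2_le_P1 : Q2 ≤ P1 := by
  refine (Subgroup.closure_le _).2 ?_
  intro g hg
  refine mem_P1_of_inPar ?_
  simp only [dGens, Set.mem_union, Set.mem_insert_iff, Set.mem_singleton_iff] at hg
  rcases hg with (rfl | rfl | rfl | rfl) | rfl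
  all_goals first | (rw [enc_cg]; decide +kernel) | (rw [enc_B]; decide +kernel)

theorem fix_Q1 : allLt (fun q => Nat.beq q 0 || !(cWords.all fun w => Nat.beq (runQ q w) q)) 3906 = true := by
  decide +kernel

theorem P1_of_norm_Q1 {h : Hg} (hn : ∀ x ∈ Q1, h * x * h⁻¹ ∈ Q1) : h ∈ P1 := by
  obtain ⟨c, hc, i, hi, q, hq, rfl⟩ := decomp h
  set s := c * r5H i
  have hs : s ∈ P1 := (mem_P1 _).2 ⟨c, hc, i, hi, rfl⟩
  have hall : (cWords.all fun w => Nat.beq (runQ q w) q) = true := by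
    refine List.all_eq_true.2 fun w hw => ?_
    have hx : gword gl w ∈ Q1 := (mem_Q1 _).2 (by
      rw [enc_gl_word]; exact List.all_eq_true.1 cWords_ok w hw)
    rw [runQ_fixed hq (w := w) ?_]
    · exact Nat.beq_refl q
    · have := mul_mem (mul_mem (inv_mem hs) (Q1_le_P1 (hn _ hx))) hs
      rwa [show s⁻¹ * (s * tqH q * gword gl w * (s * tqH q)⁻¹) * s = tqH q * gword gl w * (tqH q)⁻¹ by group] at this
  have h0 := allLt_spec fix_Q1 q hq
  rw [hall, Bool.not_true, Bool.or_false] at h0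
  obtain rfl := Nat.eq_of_beq_eq_true h0
  refine mul_mem hs ?_
  obtain ⟨t, -, he⟩ := tqH_spec (by norm_num : 0 < 3906)
  have h1 : tqH 0 = 1 := by
    have h := five_ok
    simp only [fiveOK, Bool.and_eq_true] at h
    exact enc_inj (by rw [t, Nat.eq_of_beq_eq_true h.2.2, enc_one])
  rw [h1]; exact one_mem _

/-- an element outside the first parabolic subgroup normalising the other radical -/
noncomputable def eH : Hg :=
  (hB ^ 2)⁻¹ * (hA⁻¹ * hC⁻¹ * hA * hC) * hA⁻¹ * hC * hA * hD * hC * hB * hA * hB⁻¹ * hD * hC * hD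

/-- its code -/
def eP : ℕ :=
  mulP (mulP (mulP (mulP (mulP (mulP (mulP (mulP (mulP (mulP (mulP (mulP (invP (powP gB 2))
    (mulP (mulP (mulP (invP gA) (invP gC)) gA) gC)) (invP gA)) gC) gA) gD) gC) gB) gA) (invP gB)) gD) gC) gD

theorem enc_eH : enc eH = eP := by
  simp only [eH, eP, enc_mul, enc_inv, enc_pow, enc_A, enc_B, enc_C, enc_D]

theorem fix_Q2 : allLt (fun q => !(q2Words.all fun w => Nat.beq (runQ q w) q) ||
    (Nat.beq q 0 || (List.range 5).any fun k =>
      inPar (mulP (tq q) (invP (mulP eP (powP (sEl 1) k)))))) 3906 = true := by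
  decide +kernel

theorem norm_Q2_cases {h : Hg} (hn : ∀ x ∈ Q2, h * x * h⁻¹ ∈ Q2) :
    h ∈ P1 ∨ ∃ s ∈ P1, ∃ k < 5, h = s * (eH * cg 1 ^ k) := by
  obtain ⟨c, hc, i, hi, q, hq, rfl⟩ := decomp h
  set s := c * r5H i
  have hs : s ∈ P1 := (mem_P1 _).2 ⟨c, hc, i, hi, rfl⟩
  have hall : (q2Words.all fun w => Nat.beq (runQ q w) q) = true := by
    refine List.all_eq_true.2 fun w hw => ?_
    have hx : gword gl w ∈ Q2 := (mem_Q2 _).2 (by
      rw [enc_gl_word]; exact List.all_eq_true.1 q2Words_ok w hw)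
    rw [runQ_fixed hq (w := w) ?_]
    · exact Nat.beq_refl q
    · have := mul_mem (mul_mem (inv_mem hs) (Q2_le_P1 (hn _ hx))) hs
      rwa [show s⁻¹ * (s * tqH q * gword gl w * (s * tqH q)⁻¹) * s = tqH q * gword gl w * (tqH q)⁻¹ by group] at this
  have h0 := allLt_spec fix_Q2 q hq
  rw [hall, Bool.not_true, Bool.false_or, Bool.or_eq_true] at h0
  obtain ⟨t, -, -⟩ := tqH_spec hq
  rcases h0 with h0 | h0
  · obtain rfl := Nat.eq_of_beq_eq_true h0
    have h1 : tqH 0 = 1 := by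
      have h := five_ok
      simp only [fiveOK, Bool.and_eq_true] at h
      exact enc_inj (by rw [t, Nat.eq_of_beq_eq_true h.2.2, enc_one])
    exact .inl (by rw [h1, mul_one]; exact hs)
  · obtain ⟨k, hk, hp⟩ := List.any_eq_true.1 h0
    refine .inr ⟨s * (tqH q * (eH * cg 1 ^ k)⁻¹), mul_mem hs (mem_P1_of_inPar ?_), k,
      List.mem_range.1 hk, by group⟩
    rw [enc_mul, enc_inv, t, enc_mul, enc_eH, enc_pow, enc_cg]
    exact hp

end CfsgLib.LyAut84
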