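import Cfsg.Agent.LyAut84.Codes
import Cfsg.Agent.LyAut84.Points

/-!
The small checks: the parabolic subgroup, the torus, the lines and the products at the candidates.
-/

set_option autoImplicit false
set_option maxRecDepth 100000

namespace CfsgLib.LyAut84

open CfsgLib.Ly33

/-- an element of the parabolic subgroup modulo the radical -/
def leviP (L i : ℕ) : ℕ := mulP (lwEl L) (r5 i)

/-- the coset representatives outside the Borel subgroup -/
def abP (j : ℕ) : ℕ := mulP gA (powP gB j)

/-- the generator of the second factor of the torus -/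
def tP : ℕ := mulP (mulP (mulP (mulP (mulP (invP gA) (invP gB)) (invP gA)) gB) gB) (invP gA)

/-- the torus -/
def torP (i j : ℕ) : ℕ := mulP (powP (powP gA 2) i) (powP tP j)

/-- for an element modulo the radical -/
def leviCheck (L i : ℕ) : Bool :=
  let m := leviP L i
  bif withB inU (cnj gB m) then
    inW (cnj wP m) && (List.range 16).any fun n => withB inU (mulP m (invP (torP (n / 4) (n % 4))))
  else
    !(com wP (cnj wP m)) && (List.range 5).any fun j =>
      withB inU (cnj gB (mulP m (invP (abP j))))

/-- the check for one coset representative -/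
def leviAll (i : ℕ) : Bool := allLt (fun L => leviCheck L i) 96

theorem levi_checks0 : leviAll 0 = true := by decide +kernel

theorem levi_checks1 : leviAll 1 = true := by decide +kernel

theorem levi_checks2 : leviAll 2 = true := by decide +kernel

theorem levi_checks3 : leviAll 3 = true := by decide +kernel

theorem levi_checks4 : leviAll 4 = true := by decide +kernel

theorem levi_checks {L i : ℕ} (hL : L < 96) (hi : i < 5) : leviCheck L i = true := by
  interval_cases i
  exacts [allLt_spec levi_checks0 L hL, allLt_spec levi_checks1 L hL, allLt_spec levi_checks2 L hL,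
    allLt_spec levi_checks3 L hL, allLt_spec levi_checks4 L hL]

/-- centralising the radical modulo the centre -/
def centQ1Check (L i : ℕ) : Bool :=
  let m := leviP L i
  !(allLt (fun g => inZ (mulP (mulP (mulP m (sEl g)) (invP m)) (invP (sEl g)))) 4) || inU m

theorem centQ1_checks : allLt (fun L => allLt (centQ1Check L) 5) 96 = true := by decide +kernel

/-- centralising the other radical modulo the first one -/
def centQ2Check (L i : ℕ) : Bool :=
  let m := leviP L i
  !(inU (mulP (mulP (mulP m gB) (invP m)) (invP gB)) &&
    [0, 2, 3].all fun g => inZ (mulP (mulP (mulP m (sEl g)) (invP m)) (invP (sEl g)))) ||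
      withB inU m

theorem centQ2_checks : allLt (fun L => allLt (centQ2Check L) 5) 96 = true := by decide +kernel

/-- centraliser of the radical in itself -/
theorem centre_Q1 : allLt (fun a => allLt (fun b => allLt (fun i => allLt (fun j => allLt (fun m =>
    let x := qcode a b i j m
    !(com x (sEl 0) && (com x (sEl 1) && (com x (sEl 2) && com x (sEl 3)))) || inZ x)
      5) 5) 5) 5) 5 = true := by
  decide +kernel

/-- the representatives of the six lines -/
def repP6 (r : ℕ) : ℕ := bif Nat.beq r 5 then oneP else abP r

/-- the union of the six lines -/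
def inO (n : ℕ) : Bool :=
  (List.range 6).any fun r => inW (mulP (mulP (repP6 r) n) (invP (repP6 r)))

/-- the element number `a, m` of line `r` -/
def oEl (r a m : ℕ) : ℕ := cnj (qcode a 0 (2 * a % 5) (2 * a % 5) m) (repP6 r)

theorem lines_closed : allLt (fun r => allLt (fun a => allLt (fun m =>
    let y := oEl r a m
    inO (cnj y gA) && (inO (cnj y gB) && inO (cnj y gC))) 5) 5) 6 = true := by
  decide +kernel

/-- the action of the extra element on the radical -/
def zc (n : ℕ) : ℕ := pIm (cparts n)

theorem z_images : allLt (fun g => inU (sIm g)) 5 = true := by decide +kernel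

theorem lines_moved : allLt (fun k =>
    (List.range 6).any fun r => !(inO (cnj (zc (oEl r 1 0)) (powP gB k)))) 5 = true := by
  decide +kernel

/-- a step of the action: conjugation by an element, or by the extra element -/
inductive Stp where
  | el (h : ℕ)
  | tz

/-- the action of one step -/
def stp (n : ℕ) : Stp → ℕ
  | .el h => cnj n h
  | .tz => zc n

/-- the action of a list of steps -/
def act (l : List Stp) (n : ℕ) : ℕ := l.foldl stp n

theorem act_nil (n : ℕ) : act [] n = n := rfl

theorem act_cons (o : Stp) (l : List Stp) (n : ℕ) : act (o :: l) n = act l (stp n o) :=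
  List.foldl_cons ..

/-- the candidates: number five is the extra element alone -/
def repSteps (r : ℕ) : List Stp := bif Nat.beq r 5 then [.tz] else [.el (abP r), .tz]

/-- the exponents in the products at the candidates -/
def prodExps : ℕ → List ℕ
  | 1 => [3, 0]
  | 2 => [4, 0]
  | 3 => [0, 4, 0]
  | _ => [1, 4, 0]

/-- the products at the candidates -/
def prodSteps (r : ℕ) : List Stp := (prodExps r).flatMap fun k => repSteps r ++ [.el (powP gB k)]

theorem prod_checks : [0, 1, 2, 3, 5].all (fun r =>
    !(inW (act (prodSteps r) wP)) && allLt (fun o => allLt (fun a => allLt (fun m =>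
      inO (act (prodSteps r) (oEl o a m))) 5) 5) 6) = true := by
  decide +kernel

theorem four_check : (com wP (act (repSteps 4) wP) && (com wP (act (repSteps 4) (sEl 4)) &&
    (com (sEl 4) (act (repSteps 4) wP) && com (sEl 4) (act (repSteps 4) (sEl 4))))) = true := by decide +kernel

/-- the exponent of the action of a torus element on b -/
def chiB (n : ℕ) : ℕ :=
  ((List.range 5).find? fun k => Nat.beq (cnj gB (torP (n / 4) (n % 4))) (powP gB k)).getD 0

/-- the exponent of the action of a torus element on the other element -/
def chiX (n : ℕ) : ℕ :=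
  ((List.range 5).find? fun k => Nat.beq (cnj x1P (torP (n / 4) (n % 4))) (powP x1P k)).getD 0

theorem torus_chars : allLt (fun n =>
    (Nat.beq (cnj gB (torP (n / 4) (n % 4))) (powP gB (chiB n)) &&
      Nat.beq (cnj x1P (torP (n / 4) (n % 4))) (powP x1P (chiX n))) &&
    allLt (fun n' => !(Nat.beq (chiB n) (chiB n') && Nat.beq (chiX n) (chiX n')) || Nat.beq n n') 16)
      16 = true := by
  decide +kernel

theorem torus_onto : allLt (fun k => allLt (fun l => (List.range 16).any fun n =>
    Nat.beq (chiB n) (k + 1) && Nat.beq (chiX n) (l + 1)) 4) 4 = true := by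
  decide +kernel

theorem torus_rels : ((Nat.beq (mulP (powP gA 2) tP) (mulP tP (powP gA 2)) &&
    (Nat.beq (powP (powP gA 2) 4) oneP && Nat.beq (powP tP 4) oneP)) &&
    allLt (fun n => (!(withB inU (torP (n / 4) (n % 4))) || Nat.beq n 0) &&
      inPar (torP (n / 4) (n % 4))) 16) = true := by
  decide +kernel

theorem torus_fix : allLt (fun a => allLt (fun i => allLt (fun j => allLt (fun m =>
    let d := qcode a 0 i j m
    (!(com d (torP 1 0)) || Nat.beq d oneP) && (!(com d (torP 1 1)) || Nat.beq d oneP)) 5) 5) 5) 5 = true := by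
  decide +kernel

theorem torus_step : allLt (fun n => ((List.range 16).any fun k => Nat.beq
      (mulP (torP (n / 4) (n % 4)) (powP gA 2)) (torP (k / 4) (k % 4))) &&
    (((List.range 16).any fun k => Nat.beq
      (mulP (torP (n / 4) (n % 4)) tP) (torP (k / 4) (k % 4))) &&
      (Nat.blt (chiB n) 5 && (Nat.blt (chiX n) 5 && withB inU (cnj gB (torP (n / 4) (n % 4))))))) 16 = true := by
  decide +kernel

theorem torus_distinct : allLt (fun n => allLt (fun n' =>
    !(Nat.beq (torP (n / 4) (n % 4)) (torP (n' / 4) (n' % 4))) || Nat.beq n n') 16) 16 = true := by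
  decide +kernel

theorem x1_facts : (Nat.beq (powP x1P 5) oneP && (allLt (fun g => Nat.beq g 1 || inD (mulP (mulP x1P (sEl g)) (invP x1P))) 5 &&
    allLt (fun g => (List.range 5).any fun i => inD (mulP (sEl g) (powP x1P i))) 5) &&
    (Nat.beq (cnj gB (torP 1 0)) gB && Nat.beq (cnj x1P (torP 1 1)) x1P)) = true := by
  decide +kernel

/-- the code of a word in b and the other element -/
def bxCode : List ℕ → ℕ
  | [] => oneP
  | x :: w => mulP (bif Nat.beq x 0 then x1P else gB) (bxCode w)

/-- words for the generators of the radical -/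
def bxWords : List (List ℕ) := [[0,0,0,0,1,0,0,1,0,1,0,1,1,1,0,1,1,0,1,1],
  [0,1,0,1,0,0,1,0,0,0,1,1], [0,0,1,0,0,1,0,0,0,1,0,1,1,0,0], [0,0,0,0,1,0,0,0,1,0,0,1,1,0,1],
  [0,0,1,0,0,1,0,0,1,0,0,1,0,0,1]]

theorem bx_ok : allLt (fun g => Nat.beq (bxCode (bxWords.getD g [])) (sEl g)) 5 = true := by
  decide +kernel

theorem eP_facts : (((Nat.beq (mulP eP eP) oneP && withB inD (cnj gB eP)) &&
    ([0, 2, 3, 4].all (fun g => withB inD (cnj (sEl g) eP)) &&
      allLt (fun k => !(inZ (cnj (sEl 4) (invP (mulP eP (powP (sEl 1) k)))))) 5)) &&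
    inPar (mulP (mulP eP (powP gA 2)) eP)) = true := by
  decide +kernel

theorem centre_fix : allLt (fun a => allLt (fun m =>
    let x := qcode a 0 (2 * a % 5) (2 * a % 5) m
    !(com x (mulP (mulP eP (powP gA 2)) eP)) || Nat.beq x oneP) 5) 5 = true := by
  decide +kernel

theorem a_fix : allLt (fun k => let z := powP (sEl 4) k
    (!(Nat.beq (powP (mulP gA z) 2) (powP gA 2)) || Nat.beq k 0) &&
    (!(com z gA) || Nat.beq k 0)) 5 = true := by
  decide +kernel

theorem d_word : Nat.beq gD
    (mulP (mulP (mulP (mulP (mulP (mulP (mulP (mulP (mulP (mulP (mulP (mulP (mulP (mulP gA (powP gB 2)) (invP gA))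
      (invP gB)) (invP gC)) (invP (sEl 3))) (invP (sEl 4))) gA) eP) gA) eP) gA) (invP (sEl 1))) gB) eP) = true := by
  decide +kernel

theorem five_split : allLt (fun i => (List.range 5).any fun k =>
    inC (mulP (r5 i) (invP (powP gB k)))) 5 = true := by
  decide +kernel

end CfsgLib.LyAut84
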