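import Cfsg.Agent.LyAut84.Intrinsic
import Cfsg.Agent.LyAut84.Checks

/-!
Orders of the five-groups, the parabolic subgroup as a product, and the Borel subgroup.
-/

set_option autoImplicit false
set_option maxRecDepth 100000
set_option linter.style.haveILetI false

namespace CfsgLib.LyAut84

open CfsgLib.Ly33

attribute [local irreducible] mulP invP cparts glIx el xEl yEl zEl lwEl xIm yIm zIm lwIm sEl sIm gA gB gC gD oneP inC inPar tqIx tiIx r5Ix r5IIx trq

theorem Pg_eq : P1 = Subgroup.closure ({hA, hB, hC} : Set Hg) := by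
  apply Subgroup.map_injective Hg.subtype_injective
  rw [P1, Subgroup.map_subgroupOf_eq_of_le Pg_le, MonoidHom.map_closure, Pg]
  simp only [Set.image_insert_eq, Set.image_singleton]
  rfl

theorem gens_norm : allLt (fun g => inU (cnj (sEl g) gA) && (inU (cnj (sEl g) gB) && inU (cnj (sEl g) gC))) 5 = true := by
  decide +kernel

theorem enc_conj (x g : Hg) : enc (g⁻¹ * x * g) = cnj (enc x) (enc g) := by
  simp only [cnj, enc_mul, enc_inv]

theorem conj_Q1 {p : Hg} (hp : p ∈ P1) : ∀ x ∈ Q1, p⁻¹ * x * p ∈ Q1 ∧ p * x * p⁻¹ ∈ Q1 := by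
  rw [Pg_eq] at hp
  induction hp using Subgroup.closure_induction with
  | mem g hg =>
    refine conj_mem_closure ?_
    rintro _ ⟨i, rfl⟩
    rw [← Q1, mem_Q1, enc_conj, enc_cg]
    have h := allLt_spec gens_norm i.1 i.2
    simp only [Bool.and_eq_true] at h
    simp only [Set.mem_insert_iff, Set.mem_singleton_iff] at hg
    rcases hg with rfl | rfl | rfl
    · rw [enc_A]; exact h.1
    · rw [enc_B]; exact h.2.1
    · rw [enc_C]; exact h.2.2
  | one => intro x hx; simpa using hx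
  | mul a b _ _ ha hb =>
    intro x hx
    refine ⟨?_, ?_⟩
    · have := (hb _ (ha x hx).1).1
      rwa [show b⁻¹ * (a⁻¹ * x * a) * b = (a * b)⁻¹ * x * (a * b) by group] at this
    · have := (ha _ (hb x hx).2).2
      rwa [show a * (b * x * b⁻¹) * a⁻¹ = a * b * x * (a * b)⁻¹ by group] at this
  | inv a _ ha => intro x hx; rw [inv_inv]; exact (ha x hx).symm

theorem A_mem_P1 : hA ∈ P1 := by rw [Pg_eq]; exact Subgroup.subset_closure (by simp)

theorem B_mem_P1 : hB ∈ P1 := by rw [Pg_eq]; exact Subgroup.subset_closure (by simp)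

theorem C_mem_P1 : hC ∈ P1 := by rw [Pg_eq]; exact Subgroup.subset_closure (by simp)

theorem S_le_P1 : S ≤ P1 :=
  (Subgroup.closure_le _).2 (by
    rintro g (⟨i, rfl⟩ | hg)
    · exact Q1_le_P1 (cg_mem i)
    · rw [Set.mem_singleton_iff.1 hg]; exact B_mem_P1)

theorem cset_le_P1 {c : Hg} (hc : c ∈ Cset) : c ∈ P1 :=
  (mem_P1 _).2 ⟨c, hc, 0, by norm_num, by
    rw [show r5H 0 = 1 from enc_inj (by
      rw [(r5H_spec (by norm_num : 0 < 5)).1, enc_one]
      have h := five_ok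
      simp only [fiveOK, Bool.and_eq_true] at h
      exact Nat.eq_of_beq_eq_true h.2.1), mul_one]⟩

theorem P1_split {p : Hg} (hp : p ∈ P1) :
    ∃ q ∈ Q1, ∃ m : Hg, ∃ L < 96, ∃ i < 5, p = q * m ∧ enc m = leviP L i ∧ m ∈ P1 := by
  obtain ⟨c, hc, i, hi, rfl⟩ := (mem_P1 p).1 hp
  obtain ⟨u, l, ⟨a, b, m, ha, hb, hm, e⟩, L, hL, hl, rfl⟩ := cset_split hc
  have hu : u ∈ Q1 := by
    rw [show u = qel (a / 5) (a % 5) (b / 5) (b % 5) m from enc_inj (by
      rw [e, enc_qel (by omega) (by omega) (by omega) (by omega) hm, qcode, Nat.div_add_mod,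
        Nat.div_add_mod])]
    exact (qel_mem _ _ _ _ _)
  refine ⟨u, hu, l * r5H i, L, hL, i, hi, mul_assoc _ _ _, ?_, ?_⟩
  · rw [enc_mul, hl, (r5H_spec hi).1, leviP]
  · have := mul_mem (inv_mem (Q1_le_P1 hu)) hp
    rwa [show u⁻¹ * (u * l * r5H i) = l * r5H i by group] at this

theorem powQ1 : allLt (fun a => allLt (fun b => allLt (fun i => allLt (fun j => allLt (fun m =>
    Nat.beq (powP (qcode a b i j m) 5) oneP) 5) 5) 5) 5) 5 = true := by
  decide +kernel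

theorem pow_five_Q1 {x : Hg} (hx : x ∈ Q1) : x ^ 5 = 1 := by
  obtain ⟨a, ha, b, hb, i, hi, j, hj, m, hm, rfl⟩ := qel_of_inU ((mem_Q1 x).1 hx)
  refine enc_inj ?_
  rw [enc_pow, enc_qel ha hb hi hj hm, enc_one]
  exact Nat.eq_of_beq_eq_true
    (allLt_spec (allLt_spec (allLt_spec (allLt_spec (allLt_spec powQ1 a ha) b hb) i hi) j hj) m hm)

theorem mul_pow_mod_Q1 {q l : Hg} (hq : q ∈ Q1) (hl : l ∈ P1) :
    ∀ n : ℕ, (q * l) ^ n * (l ^ n)⁻¹ ∈ Q1
  | 0 => by simp [one_mem]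
  | n + 1 => by
    have h1 := mul_pow_mod_Q1 hq hl n
    have h2 := (conj_Q1 (pow_mem hl n) q hq).2
    have e : (q * l) ^ (n + 1) * (l ^ (n + 1))⁻¹ =
        ((q * l) ^ n * (l ^ n)⁻¹) * (l ^ n * q * (l ^ n)⁻¹) := by
      rw [pow_succ, pow_succ]; group
    rw [e]; exact mul_mem h1 h2

theorem pow_twentyfive_S {x : Hg} (hx : x ∈ S) : x ^ 25 = 1 := by
  obtain ⟨i, -, h⟩ := (withB_iff _ _).1 ((mem_S x).1 hx)
  have hq : x * hB ^ i ∈ Q1 := (mem_Q1 _).2 h
  have h5 : x ^ 5 ∈ Q1 := by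
    have := mul_pow_mod_Q1 hq (inv_mem (pow_mem B_mem_P1 i)) 5
    rwa [mul_inv_cancel_right, inv_pow, inv_inv, ← pow_mul, mul_comm i 5, pow_mul, b_five, one_pow,
      mul_one] at this
  rw [show 25 = 5 * 5 by norm_num, pow_mul]
  exact pow_five_Q1 h5

theorem levi_five : allLt (fun L => !(inU (powP (powP (lwEl L) 5) 5)) || Nat.beq L 0) 96 = true := by
  decide +kernel

theorem mem_Q1_of_pow {c : Hg} (hc : c ∈ Cset) (h : c ^ 25 = 1) : c ∈ Q1 := by
  obtain ⟨u, l, ⟨a, b, m, ha, hb, hm, e⟩, L, hL, hl, rfl⟩ := cset_split hc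
  have hu : u ∈ Q1 := by
    rw [show u = qel (a / 5) (a % 5) (b / 5) (b % 5) m from enc_inj (by
      rw [e, enc_qel (by omega) (by omega) (by omega) (by omega) hm, qcode, Nat.div_add_mod,
        Nat.div_add_mod])]
    exact (qel_mem _ _ _ _ _)
  have hlP : l ∈ P1 := by
    have := mul_mem (inv_mem (Q1_le_P1 hu)) (cset_le_P1 hc)
    rwa [inv_mul_cancel_left] at this
  have h1 := mul_pow_mod_Q1 hu hlP 25
  rw [h, one_mul, inv_mem_iff, mem_Q1, show (25 : ℕ) = 5 * 5 by norm_num, pow_mul, enc_pow, enc_pow, hl] at h1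
  have h0 := allLt_spec levi_five L hL
  rw [h1, Bool.not_true, Bool.false_or] at h0
  obtain rfl := Nat.eq_of_beq_eq_true h0
  have : l = 1 := enc_inj (by rw [hl, levi_zero, enc_one])
  rw [this, mul_one]; exact hu

/-- the set of tuples of exponents -/
abbrev Exp5 : Type := Fin 5 × Fin 5 × Fin 5 × Fin 5 × Fin 5

theorem b_pow_not_Q1 {i : ℕ} (hi : i < 5) (h : hB ^ i ∈ Q1) : i = 0 := by
  have hd : allLt (fun i => Nat.beq i 0 || !(inU (powP gB i))) 5 = true := by decide +kernel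
  have h0 := allLt_spec hd i hi
  rw [mem_Q1, enc_pow, enc_B] at h
  rw [h, Bool.not_true, Bool.or_false] at h0
  exact Nat.eq_of_beq_eq_true h0

theorem card_Q1 : Nat.card Q1 = 3125 := by
  let f : Exp5 → Q1 := fun v => ⟨qel v.1 v.2.1 v.2.2.1 v.2.2.2.1 v.2.2.2.2, (qel_mem _ _ _ _ _)⟩
  have hf : Function.Bijective f := by
    constructor
    · rintro ⟨a, b, i, j, m⟩ ⟨a', b', i', j', m'⟩ h
      have h' : qel a b i j m = qel a' b' i' j' m' := congrArg Subtype.val h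
      obtain ⟨-, p1, p2⟩ := qel_parts a.2 b.2 i.2 j.2 m.2
      obtain ⟨-, q1, q2⟩ := qel_parts a'.2 b'.2 i'.2 j'.2 m'.2
      rw [h'] at p1 p2
      have ea : (a : ℕ) = a' := by have := a.2; have := b.2; have := a'.2; have := b'.2; omega
      have eb : (b : ℕ) = b' := by omega
      have ei : (i : ℕ) = i' := by have := i.2; have := j.2; have := i'.2; have := j'.2; omega
      have ej : (j : ℕ) = j' := by omega
      simp only [qel, ea, eb, ei, ej, mul_right_inj] at h'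
      have em : (m : ℕ) = m' := by
        have hne : cg 4 ≠ 1 := fun e => absurd (congrArg enc e) (by
          rw [enc_cg, enc_one]; decide +kernel)
        have ho : orderOf (cg 4) = 5 := orderOf_eq_prime (hp := ⟨by norm_num⟩) (pow_five_Q1 (cg_mem 4)) hne
        rw [pow_inj_mod, ho, Nat.mod_eq_of_lt m.2, Nat.mod_eq_of_lt m'.2] at h'
        exact h'
      simp [Fin.ext_iff, ea, eb, ei, ej, em]
    · rintro ⟨x, hx⟩
      obtain ⟨a, ha, b, hb, i, hi, j, hj, m, hm, rfl⟩ := qel_of_inU ((mem_Q1 x).1 hx)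
      exact ⟨(⟨a, ha⟩, ⟨b, hb⟩, ⟨i, hi⟩, ⟨j, hj⟩, ⟨m, hm⟩), rfl⟩
  rw [← Nat.card_congr (Equiv.ofBijective f hf)]
  simp [Nat.card_eq_fintype_card]

theorem card_S : Nat.card S = 15625 := by
  let f : Q1 × Fin 5 → S := fun v =>
    ⟨(v.1 : Hg) * hB ^ (v.2 : ℕ), mul_mem (Q1_le_S v.1.2) (pow_mem hB_mem_S _)⟩
  have hf : Function.Bijective f := by
    constructor
    · rintro ⟨q, k⟩ ⟨q', k'⟩ h
      have h' : (q : Hg) * hB ^ (k : ℕ) = q' * hB ^ (k' : ℕ) := congrArg Subtype.val h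
      have h1 : hB ^ ((k + (5 - k')) % 5 : ℕ) ∈ Q1 := by
        rw [← pow_eq_pow_mod _ b_five, pow_add]
        have e : hB ^ (k : ℕ) * hB ^ (5 - (k' : ℕ)) = (q : Hg)⁻¹ * q' := by
          rw [show hB ^ (5 - (k' : ℕ)) = (hB ^ (k' : ℕ))⁻¹ from eq_inv_of_mul_eq_one_left (by
            rw [← pow_add, Nat.sub_add_cancel (by omega), b_five]),
            eq_inv_mul_iff_mul_eq, ← mul_assoc, h', mul_inv_cancel_right]
        rw [e]; exact mul_mem (inv_mem q.2) q'.2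
      have := b_pow_not_Q1 (Nat.mod_lt _ (by norm_num)) h1
      have ek : (k : ℕ) = k' := by have := k.2; have := k'.2; omega
      rw [ek, mul_left_inj] at h'
      exact Prod.ext (Subtype.ext h') (Fin.ext ek)
    · rintro ⟨x, hx⟩
      obtain ⟨i, hi, h⟩ := (withB_iff _ _).1 ((mem_S x).1 hx)
      refine ⟨(⟨x * hB ^ i, (mem_Q1 _).2 h⟩, ⟨(5 - i) % 5, Nat.mod_lt _ (by norm_num)⟩), Subtype.ext ?_⟩
      show x * hB ^ i * hB ^ ((5 - i) % 5) = x
      rw [mul_assoc, ← pow_add, pow_eq_pow_mod (i + (5 - i) % 5) b_five,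
        show (i + (5 - i) % 5) % 5 = 0 by omega, pow_zero, mul_one]
  rw [← Nat.card_congr (Equiv.ofBijective f hf), Nat.card_prod, card_Q1]
  simp

theorem card_W : Nat.card W = 25 := by
  let f : Fin 5 × Fin 5 → W := fun v =>
    ⟨qel v.1 0 (2 * v.1 % 5) (2 * v.1 % 5) v.2, (mem_W _).2 ((inW_iff_qel _).2 ⟨v.1, v.1.2, v.2, v.2.2, rfl⟩)⟩
  have hf : Function.Bijective f := by
    constructor
    · rintro ⟨a, m⟩ ⟨a', m'⟩ h
      have h' : qel a 0 (2 * a % 5) (2 * a % 5) m = qel a' 0 (2 * a' % 5) (2 * a' % 5) m' :=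
        congrArg Subtype.val h
      obtain ⟨-, p1, -⟩ := qel_parts a.2 (show 0 < 5 by norm_num) (i := 2 * a % 5) (j := 2 * a % 5)
        (by omega) (by omega) m.2
      obtain ⟨-, q1, -⟩ := qel_parts a'.2 (show 0 < 5 by norm_num) (i := 2 * a' % 5) (j := 2 * a' % 5)
        (by omega) (by omega) m'.2
      rw [h'] at p1
      have ea : (a : ℕ) = a' := by omega
      simp only [qel, ea, mul_right_inj] at h'
      have hne : cg 4 ≠ 1 := fun e => absurd (congrArg enc e) (by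
        rw [enc_cg, enc_one]; decide +kernel)
      have ho : orderOf (cg 4) = 5 := orderOf_eq_prime (hp := ⟨by norm_num⟩) (pow_five_Q1 (cg_mem 4)) hne
      rw [pow_inj_mod, ho, Nat.mod_eq_of_lt m.2, Nat.mod_eq_of_lt m'.2] at h'
      simp [Fin.ext_iff, ea, h']
    · rintro ⟨x, hx⟩
      obtain ⟨a, ha, m, hm, rfl⟩ := (inW_iff_qel x).1 ((mem_W x).1 hx)
      exact ⟨(⟨a, ha⟩, ⟨m, hm⟩), rfl⟩
  rw [← Nat.card_congr (Equiv.ofBijective f hf)]
  simp

/-- the torus generators -/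
noncomputable def tor (n : ℕ) : Hg :=
  (hA ^ 2) ^ (n / 4) * (hA⁻¹ * hB⁻¹ * hA⁻¹ * hB * hB * hA⁻¹) ^ (n % 4)

theorem enc_tor (n : ℕ) : enc (tor n) = torP (n / 4) (n % 4) := by
  simp only [tor, torP, tP, enc_mul, enc_inv, enc_pow, enc_A, enc_B]

/-- the representatives outside the Borel subgroup -/
noncomputable def ab (j : ℕ) : Hg := hA * hB ^ j

theorem enc_ab (j : ℕ) : enc (ab j) = abP j := by simp only [ab, abP, enc_mul, enc_pow, enc_A, enc_B]

/-- normalising the Sylow subgroup -/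
def NormS (p : Hg) : Prop := ∀ x ∈ S, p⁻¹ * x * p ∈ S

theorem normS_of {p : Hg} (hp : p ∈ P1) (h : p⁻¹ * hB * p ∈ S) : NormS p := by
  intro x hx
  refine (conj_mem_closure ?_ x hx).1
  rintro g (⟨i, rfl⟩ | hg)
  · exact Q1_le_S (conj_Q1 hp _ (cg_mem i)).1
  · rw [Set.mem_singleton_iff.1 hg]; exact h

theorem W_central_Q1 {z : Hg} (hz : z ∈ Z) {x : Hg} (hx : x ∈ Q1) : Commute x z :=
  (((cen_iff z).2 hz).2 x (Q1_le_S hx)).symm

theorem comm_Q1_Z {x : Hg} (hx : x ∈ Q1) (h : ∀ i : Fin 5, Commute x (cg i)) : x ∈ Z := by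
  obtain ⟨a, ha, b, hb, i, hi, j, hj, m, hm, rfl⟩ := qel_of_inU ((mem_Q1 x).1 hx)
  rw [mem_Z, enc_qel ha hb hi hj hm]
  have h' : ∀ g : Fin 5, com (qcode a b i j m) (sEl g.1) = true := fun g => by
    rw [← enc_cg, ← enc_qel ha hb hi hj hm]; exact (com_iff _ _).2 (h g)
  have h0 := allLt_spec (allLt_spec (allLt_spec (allLt_spec (allLt_spec centre_Q1 a ha) b hb) i hi) j hj) m hm
  have e0 := h' 0; have e1 := h' 1; have e2 := h' 2; have e3 := h' 3
  simp only [show ((0 : Fin 5) : ℕ) = 0 from rfl, show ((1 : Fin 5) : ℕ) = 1 from rfl,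
    show ((2 : Fin 5) : ℕ) = 2 from rfl, show ((3 : Fin 5) : ℕ) = 3 from rfl] at e0 e1 e2 e3
  simpa [e0, e1, e2, e3] using h0

theorem borel_cases {p : Hg} (hp : p ∈ P1) :
    (NormS p ∧ ∃ s ∈ S, ∃ n < 16, p = s * tor n) ∨
    (¬ NormS p ∧ ¬ Commute w (p⁻¹ * w * p) ∧ ∃ j < 5, ∃ r ∈ P1, NormS r ∧ p = r * ab j) := by
  obtain ⟨q, hq, m, L, hL, i, hi, rfl, hm, hmP⟩ := P1_split hp
  have hqS : q ∈ S := Q1_le_S hq
  have hnorm : NormS (q * m) ↔ NormS m := by
    constructor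
    · intro h x hx
      have := h (q * x * q⁻¹) (mul_mem (mul_mem hqS hx) (inv_mem hqS))
      rwa [show (q * m)⁻¹ * (q * x * q⁻¹) * (q * m) = m⁻¹ * x * m by group] at this
    · intro h x hx
      have := h (q⁻¹ * x * q) (mul_mem (mul_mem (inv_mem hqS) hx) hqS)
      rwa [show m⁻¹ * (q⁻¹ * x * q) * m = (q * m)⁻¹ * x * (q * m) by group] at this
  have hc := levi_checks hL hi
  simp only [leviCheck] at hc
  cases hb : withB inU (cnj gB (leviP L i)) with
  | true =>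
    rw [hb, cond_true, Bool.and_eq_true] at hc
    have hn : NormS m := normS_of hmP (by rw [mem_S, enc_conj, enc_B, hm]; exact hb)
    obtain ⟨n, hn', ht⟩ := List.any_eq_true.1 hc.2
    refine .inl ⟨hnorm.2 hn, q * (m * (tor n)⁻¹), mul_mem hqS ((mem_S _).2 ?_), n, List.mem_range.1 hn', by group⟩
    rw [enc_mul, enc_inv, hm, enc_tor]
    exact ht
  | false =>
    rw [hb, cond_false, Bool.and_eq_true] at hc
    have hnn : ¬ NormS m := fun h => by
      have := (mem_S _).1 (h hB hB_mem_S)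
      rw [enc_conj, enc_B, hm, hb] at this
      cases this
    obtain ⟨j, hj, ht⟩ := List.any_eq_true.1 hc.2
    have hab : ab j ∈ P1 := mul_mem A_mem_P1 (pow_mem B_mem_P1 j)
    refine .inr ⟨fun h => hnn (hnorm.1 h), fun hcom => ?_, j, List.mem_range.1 hj, q * m * (ab j)⁻¹,
      mul_mem hp (inv_mem hab), ?_, by group⟩
    · have hz : cmt w q ∈ Z := cmt_Q1 _ ((qel_mem _ _ _ _ _)) _ hq
      set z := cmt w q
      have hzq : m⁻¹ * z * m ∈ Q1 := (conj_Q1 hmP z (Z_le_Q1 hz)).1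
      have hzc : Commute w (m⁻¹ * z * m) := by
        refine W_central_Q1 ?_ ((qel_mem _ _ _ _ _))
        refine comm_Q1_Z hzq fun g => ?_
        have h2 : Commute (m * cg g * m⁻¹) z :=
          W_central_Q1 hz (conj_Q1 hmP _ (cg_mem g)).2
        have h3 := h2.symm.map (MulAut.conj m⁻¹).toMonoidHom
        simpa [MulAut.conj_apply, mul_assoc] using h3
      have e : (q * m)⁻¹ * w * (q * m) = (m⁻¹ * w * m) * (m⁻¹ * z * m) := by
        simp only [z, cmt]; group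
      rw [e] at hcom
      have h4 : Commute w (m⁻¹ * w * m) := by
        have := hcom.mul_right hzc.inv_right
        rwa [mul_inv_cancel_right] at this
      have h5 := (com_iff _ _).2 h4
      rw [enc_w, enc_conj, enc_w, hm] at h5
      rw [h5, Bool.not_true] at hc
      exact Bool.false_ne_true hc.1
    · have hm' : NormS (m * (ab j)⁻¹) := normS_of (mul_mem hmP (inv_mem hab)) (by
        rw [mem_S, enc_conj, enc_B, enc_mul, enc_inv, hm, enc_ab]; exact ht)
      intro x hx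
      have := hm' (q⁻¹ * x * q) (mul_mem (mul_mem (inv_mem hqS) hx) hqS)
      rwa [show (m * (ab j)⁻¹)⁻¹ * (q⁻¹ * x * q) * (m * (ab j)⁻¹) =
        (q * m * (ab j)⁻¹)⁻¹ * x * (q * m * (ab j)⁻¹) by group] at this

theorem W_le_Q2 : W ≤ Q2 := by
  refine (Subgroup.closure_le _).2 ?_
  have h : (withB inD wP && withB inD (sEl 4)) = true := by decide +kernel
  rw [Bool.and_eq_true] at h
  rintro x (rfl | rfl)
  · rw [SetLike.mem_coe, mem_Q2, enc_w]; exact h.1
  · rw [SetLike.mem_coe, mem_Q2, enc_cg]; exact h.2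

theorem card_D : Nat.card D = 625 := by
  let f : Fin 5 × Fin 5 × Fin 5 × Fin 5 → D := fun v =>
    ⟨qel v.1 0 v.2.1 v.2.2.1 v.2.2.2,
      (mem_D _).2 ((inD_iff_qel _).2 ⟨v.1, v.1.2, v.2.1, v.2.1.2, v.2.2.1, v.2.2.1.2, v.2.2.2, v.2.2.2.2, rfl⟩)⟩
  have hf : Function.Bijective f := by
    constructor
    · rintro ⟨a, i, j, m⟩ ⟨a', i', j', m'⟩ h
      have h' : qel a 0 i j m = qel a' 0 i' j' m' := congrArg Subtype.val h
      obtain ⟨-, p1, p2⟩ := qel_parts a.2 (show 0 < 5 by norm_num) i.2 j.2 m.2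
      obtain ⟨-, q1, q2⟩ := qel_parts a'.2 (show 0 < 5 by norm_num) i'.2 j'.2 m'.2
      rw [h'] at p1 p2
      have ea : (a : ℕ) = a' := by omega
      have ei : (i : ℕ) = i' := by have := i.2; have := j.2; have := i'.2; have := j'.2; omega
      have ej : (j : ℕ) = j' := by omega
      simp only [qel, ea, ei, ej, mul_right_inj] at h'
      have hne : cg 4 ≠ 1 := fun e => absurd (congrArg enc e) (by
        rw [enc_cg, enc_one]; decide +kernel)
      have ho : orderOf (cg 4) = 5 := orderOf_eq_prime (hp := ⟨by norm_num⟩) (pow_five_Q1 (cg_mem 4)) hne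
      rw [pow_inj_mod, ho, Nat.mod_eq_of_lt m.2, Nat.mod_eq_of_lt m'.2] at h'
      simp [Fin.ext_iff, ea, ei, ej, h']
    · rintro ⟨x, hx⟩
      obtain ⟨a, ha, i, hi, j, hj, m, hm, rfl⟩ := (inD_iff_qel x).1 ((mem_D x).1 hx)
      exact ⟨(⟨a, ha⟩, ⟨i, hi⟩, ⟨j, hj⟩, ⟨m, hm⟩), rfl⟩
  rw [← Nat.card_congr (Equiv.ofBijective f hf)]
  simp

theorem D_le_Q2 : D ≤ Q2 := fun x hx => ((mem_D_iff x).1 hx).2

theorem card_Q2 : Nat.card Q2 = 3125 := by
  let f : D × Fin 5 → Q2 := fun v =>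
    ⟨(v.1 : Hg) * hB ^ (v.2 : ℕ), mul_mem (D_le_Q2 v.1.2) (pow_mem (show hB ∈ Q2 from Subgroup.subset_closure (Or.inr rfl)) _)⟩
  have hf : Function.Bijective f := by
    constructor
    · rintro ⟨q, k⟩ ⟨q', k'⟩ h
      have h' : (q : Hg) * hB ^ (k : ℕ) = q' * hB ^ (k' : ℕ) := congrArg Subtype.val h
      have h1 : hB ^ ((k + (5 - k')) % 5 : ℕ) ∈ Q1 := by
        rw [← pow_eq_pow_mod _ b_five, pow_add]
        have e : hB ^ (k : ℕ) * hB ^ (5 - (k' : ℕ)) = (q : Hg)⁻¹ * q' := by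
          rw [show hB ^ (5 - (k' : ℕ)) = (hB ^ (k' : ℕ))⁻¹ from eq_inv_of_mul_eq_one_left (by
            rw [← pow_add, Nat.sub_add_cancel (by omega), b_five]),
            eq_inv_mul_iff_mul_eq, ← mul_assoc, h', mul_inv_cancel_right]
        rw [e]; exact ((mem_D_iff _).1 (mul_mem (inv_mem q.2) q'.2)).1
      have := b_pow_not_Q1 (Nat.mod_lt _ (by norm_num)) h1
      have ek : (k : ℕ) = k' := by have := k.2; have := k'.2; omega
      rw [ek, mul_left_inj] at h'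
      exact Prod.ext (Subtype.ext h') (Fin.ext ek)
    · rintro ⟨x, hx⟩
      obtain ⟨i, hi, h⟩ := (withB_iff _ _).1 ((mem_Q2 x).1 hx)
      refine ⟨(⟨x * hB ^ i, (mem_D _).2 h⟩, ⟨(5 - i) % 5, Nat.mod_lt _ (by norm_num)⟩), Subtype.ext ?_⟩
      show x * hB ^ i * hB ^ ((5 - i) % 5) = x
      rw [mul_assoc, ← pow_add, pow_eq_pow_mod (i + (5 - i) % 5) b_five,
        show (i + (5 - i) % 5) % 5 = 0 by omega, pow_zero, mul_one]
  rw [← Nat.card_congr (Equiv.ofBijective f hf), Nat.card_prod, card_D]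
  simp

theorem cset_of_Q1 {x : Hg} (hx : x ∈ Q1) : x ∈ Cset := by
  have h := (mem_Q1 x).1 hx
  rw [inU, Bool.and_eq_true] at h
  exact mem_Cset_of_inC h.1

end CfsgLib.LyAut84
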