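import Cfsg.Agent.LyAut84.Basic

/-!
Boolean predicates on codes used by the scans.
-/

set_option autoImplicit false

namespace CfsgLib.LyAut84

open CfsgLib.Ly33

/-- commutator of codes -/
def cm (x y : ℕ) : ℕ := mulP (mulP (invP x) (invP y)) (mulP x y)

/-- conjugate of a code -/
def cnj (x g : ℕ) : ℕ := mulP (mulP (invP g) x) g

/-- do two codes commute -/
def com (x y : ℕ) : Bool := Nat.beq (mulP x y) (mulP y x)

/-- the second generator of the second centre -/
def wP : ℕ := qcode 1 0 2 2 0

/-- the element spanning with b the Sylow subgroup -/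
def x1P : ℕ := qcode 1 3 3 4 3

/-- the facts about one element of the Sylow subgroup -/
def scanOne (k x : ℕ) : Bool :=
  let c2 := sEl 1
  let kb := com x gB
  ((Nat.beq k 0 || !(inZ (cm (cm c2 x) x))) &&
    (!(inZ (cm x gB) && inZ (cm x c2)) || inW x)) &&
  ((!(com x wP) || withB inD x) &&
    ((!(kb && com x c2) || inZ x) &&
      (!(kb && (com x (sEl 0) && (com x (sEl 2) && com x (sEl 3)))) || inW x)))

/-- the scan of the elements with given first exponent in one coset of the radical -/
def scanSA (k a : ℕ) : Bool :=
  allLt (fun b => allLt (fun i => allLt (fun j => allLt (fun m =>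
    scanOne k (mulP (qcode a b i j m) (powP gB k))) 5) 5) 5) 5

/-- the scan over one coset of the radical -/
def scanS (k : ℕ) : Bool := allLt (scanSA k) 5

theorem scanS_of {k : ℕ} (h0 : scanSA k 0 = true) (h1 : scanSA k 1 = true) (h2 : scanSA k 2 = true)
    (h3 : scanSA k 3 = true) (h4 : scanSA k 4 = true) : scanS k = true := by
  simp only [scanS, allLt, h0, h1, h2, h3, h4, Bool.true_and]

end CfsgLib.LyAut84
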