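import Cfsg.Agent.LyAut84.Codes

/-! One part of the scan of the Sylow subgroup. -/

set_option autoImplicit false
set_option maxRecDepth 100000

namespace CfsgLib.LyAut84

theorem scanS_ok0_0 : scanSA 0 0 = true := by decide +kernel

theorem scanS_ok0_1 : scanSA 0 1 = true := by decide +kernel

theorem scanS_ok0_2 : scanSA 0 2 = true := by decide +kernel

theorem scanS_ok0_3 : scanSA 0 3 = true := by decide +kernel

theorem scanS_ok0_4 : scanSA 0 4 = true := by decide +kernel

theorem scanS_ok0 : scanS 0 = true :=
  scanS_of scanS_ok0_0 scanS_ok0_1 scanS_ok0_2 scanS_ok0_3 scanS_ok0_4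

end CfsgLib.LyAut84
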