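import Cfsg.Agent.LyAut84.Codes

/-! One part of the scan of the Sylow subgroup. -/

set_option autoImplicit false
set_option maxRecDepth 100000

namespace CfsgLib.LyAut84

theorem scanS_ok1_0 : scanSA 1 0 = true := by decide +kernel

theorem scanS_ok1_1 : scanSA 1 1 = true := by decide +kernel

theorem scanS_ok1_2 : scanSA 1 2 = true := by decide +kernel

theorem scanS_ok1_3 : scanSA 1 3 = true := by decide +kernel

theorem scanS_ok1_4 : scanSA 1 4 = true := by decide +kernel

theorem scanS_ok1 : scanS 1 = true :=
  scanS_of scanS_ok1_0 scanS_ok1_1 scanS_ok1_2 scanS_ok1_3 scanS_ok1_4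

end CfsgLib.LyAut84
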