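import Cfsg.Agent.LyAut84.Codes

/-! One part of the scan of the Sylow subgroup. -/

set_option autoImplicit false
set_option maxRecDepth 100000

namespace CfsgLib.LyAut84

theorem scanS_ok4_0 : scanSA 4 0 = true := by decide +kernel

theorem scanS_ok4_1 : scanSA 4 1 = true := by decide +kernel

theorem scanS_ok4_2 : scanSA 4 2 = true := by decide +kernel

theorem scanS_ok4_3 : scanSA 4 3 = true := by decide +kernel

theorem scanS_ok4_4 : scanSA 4 4 = true := by decide +kernel

theorem scanS_ok4 : scanS 4 = true :=
  scanS_of scanS_ok4_0 scanS_ok4_1 scanS_ok4_2 scanS_ok4_3 scanS_ok4_4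

end CfsgLib.LyAut84
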