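import Cfsg.Agent.LyAut84.Basic
import Cfsg.Agent.LyAut84.ScanS0
import Cfsg.Agent.LyAut84.ScanS1
import Cfsg.Agent.LyAut84.ScanS2
import Cfsg.Agent.LyAut84.ScanS3
import Cfsg.Agent.LyAut84.ScanS4

/-!
The radicals and the two first centres of the Sylow subgroup are described inside it, so every
automorphism fixing the Sylow subgroup fixes them.
-/

set_option autoImplicit false
set_option maxRecDepth 100000
set_option linter.style.haveILetI false

namespace CfsgLib.LyAut84

open CfsgLib.Ly33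

attribute [local irreducible] mulP invP cparts glIx el xEl yEl zEl lwEl xIm yIm zIm lwIm sEl sIm gA gB gC gD oneP inC

section General

variable {G G' : Type*} [Group G] [Group G']

/-- commutator -/
def cmt (x y : G) : G := x⁻¹ * y⁻¹ * (x * y)

theorem map_cmt (f : G →* G') (x y : G) : f (cmt x y) = cmt (f x) (f y) := by
  simp [cmt, map_mul, map_inv]

/-- conjugation by an element of finite order preserving generators preserves the subgroup -/
theorem conj_mem_closure [Finite G] {s : Set G} {p : G}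
    (h : ∀ g ∈ s, p⁻¹ * g * p ∈ Subgroup.closure s) :
    ∀ x ∈ Subgroup.closure s, p⁻¹ * x * p ∈ Subgroup.closure s ∧ p * x * p⁻¹ ∈ Subgroup.closure s := by
  set N := Subgroup.closure s with hN
  have h1 : ∀ x ∈ N, p⁻¹ * x * p ∈ N := by
    have : N ≤ N.comap (MulAut.conj p⁻¹).toMonoidHom := by
      conv_lhs => rw [hN]
      refine (Subgroup.closure_le _).2 fun g hg => ?_
      show p⁻¹ * g * p⁻¹⁻¹ ∈ N
      rw [inv_inv]; exact h g hg
    intro x hx
    have := this hx
    change p⁻¹ * x * p⁻¹⁻¹ ∈ N at this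
    rwa [inv_inv] at this
  intro x hx
  refine ⟨h1 x hx, ?_⟩
  let f : N → N := fun y => ⟨_, h1 y y.2⟩
  have hf : Function.Injective f := fun y z e => Subtype.ext (by
    simpa [f] using congrArg Subtype.val e)
  obtain ⟨y, hy⟩ := Finite.surjective_of_injective hf ⟨x, hx⟩
  have e : p⁻¹ * (y : G) * p = x := congrArg Subtype.val hy
  have : p * x * p⁻¹ = y := by rw [← e]; group
  rw [this]; exact y.2

/-- commutators of two generated subgroups with values in a subgroup centralised by both -/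
theorem cmt_closure {s t : Set G} {K : Subgroup G}
    (hs : ∀ k ∈ K, ∀ g ∈ s, Commute g k) (ht : ∀ k ∈ K, ∀ g ∈ t, Commute g k)
    (h : ∀ a ∈ s, ∀ b ∈ t, cmt a b ∈ K) :
    ∀ x ∈ Subgroup.closure s, ∀ y ∈ Subgroup.closure t, cmt x y ∈ K := by
  have hcs : ∀ k ∈ K, ∀ x ∈ Subgroup.closure s, Commute x k := fun k hk x hx => by
    induction hx using Subgroup.closure_induction with
    | mem g hg => exact hs k hk g hg
    | one => exact Commute.one_left k
    | mul a b _ _ ha hb => exact ha.mul_left hb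
    | inv a _ ha => exact ha.inv_left
  have hct : ∀ k ∈ K, ∀ x ∈ Subgroup.closure t, Commute x k := fun k hk x hx => by
    induction hx using Subgroup.closure_induction with
    | mem g hg => exact ht k hk g hg
    | one => exact Commute.one_left k
    | mul a b _ _ ha hb => exact ha.mul_left hb
    | inv a _ ha => exact ha.inv_left
  have h2 : ∀ a ∈ s, ∀ y ∈ Subgroup.closure t, cmt a y ∈ K := by
    intro a ha y hy
    induction hy using Subgroup.closure_induction with
    | mem g hg => exact h a ha g hg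
    | one => simp [cmt, one_mem]
    | mul u v hu hv iu iv =>
      have e : cmt a (u * v) = cmt a v * (v⁻¹ * cmt a u * v) := by simp only [cmt]; group
      rw [e, mul_assoc v⁻¹ (cmt a u) v, ← (hct _ iu v hv).eq, inv_mul_cancel_left]
      exact mul_mem iv iu
    | inv u hu iu =>
      have e : cmt a u⁻¹ = u * (cmt a u)⁻¹ * u⁻¹ := by simp only [cmt]; group
      rw [e, (hct _ (inv_mem iu) u hu).eq, mul_inv_cancel_right]
      exact inv_mem iu
  intro x hx y hy
  induction hx using Subgroup.closure_induction with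
  | mem g hg => exact h2 g hg y hy
  | one => simp [cmt, one_mem]
  | mul u v hu hv iu iv =>
    have e : cmt (u * v) y = (v⁻¹ * cmt u y * v) * cmt v y := by simp only [cmt]; group
    rw [e, mul_assoc v⁻¹ (cmt u y) v, ← (hcs _ iu v hv).eq, inv_mul_cancel_left]
    exact mul_mem iu iv
  | inv u hu iu =>
    have e : cmt u⁻¹ y = u * (cmt u y)⁻¹ * u⁻¹ := by simp only [cmt]; group
    rw [e, (hcs _ (inv_mem iu) u hu).eq, mul_inv_cancel_right]
    exact inv_mem iu

theorem commute_of_cmt {x y : G} (h : cmt x y = 1) : Commute x y := by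
  show x * y = y * x
  simpa [cmt, inv_mul_eq_iff_eq_mul, mul_assoc] using h

/-- central elements of a subgroup -/
def Cen (K : Subgroup G) (x : G) : Prop := x ∈ K ∧ ∀ u ∈ K, Commute x u

/-- elements acting with class two -/
def PQ1 (K : Subgroup G) (x : G) : Prop := x ∈ K ∧ ∀ u ∈ K, Cen K (cmt (cmt u x) x)

/-- the second centre -/
def PW (K : Subgroup G) (x : G) : Prop := x ∈ K ∧ ∀ u ∈ K, Cen K (cmt x u)

/-- the centraliser of the second centre -/
def PQ2 (K : Subgroup G) (x : G) : Prop := x ∈ K ∧ ∀ u, PW K u → Commute x u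

variable {f : G →* G'} (hf : Function.Injective f) (K : Subgroup G)
include hf

theorem cen_map (x : G) : Cen (K.map f) (f x) ↔ Cen K x := by
  constructor
  · exact fun h => ⟨(Subgroup.mem_map_iff_mem hf).1 h.1, fun u hu => hf (by
      rw [map_mul, map_mul]; exact h.2 _ (Subgroup.mem_map_of_mem f hu))⟩
  · rintro ⟨h1, h2⟩
    refine ⟨Subgroup.mem_map_of_mem f h1, ?_⟩
    rintro _ ⟨u, hu, rfl⟩
    exact (h2 u hu).map f

theorem pq1_map (x : G) : PQ1 (K.map f) (f x) ↔ PQ1 K x := by
  refine and_congr (Subgroup.mem_map_iff_mem hf) ⟨fun h u hu => ?_, ?_⟩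
  · rw [← cen_map hf, map_cmt, map_cmt]; exact h _ (Subgroup.mem_map_of_mem f hu)
  · rintro h _ ⟨u, hu, rfl⟩
    rw [← map_cmt, ← map_cmt, cen_map hf]; exact h u hu

theorem pw_map (x : G) : PW (K.map f) (f x) ↔ PW K x := by
  refine and_congr (Subgroup.mem_map_iff_mem hf) ⟨fun h u hu => ?_, ?_⟩
  · rw [← cen_map hf, map_cmt]; exact h _ (Subgroup.mem_map_of_mem f hu)
  · rintro h _ ⟨u, hu, rfl⟩
    rw [← map_cmt, cen_map hf]; exact h u hu

theorem pq2_map (x : G) : PQ2 (K.map f) (f x) ↔ PQ2 K x := by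
  refine and_congr (Subgroup.mem_map_iff_mem hf) ⟨fun h u hu => ?_, fun h y hy => ?_⟩
  · exact hf (by rw [map_mul, map_mul]; exact h _ ((pw_map hf K u).2 hu))
  · obtain ⟨u, -, rfl⟩ := hy.1
    exact (h u ((pw_map hf K u).1 hy)).map f

end General

theorem com_iff (x y : Hg) : com (enc x) (enc y) = true ↔ Commute x y := by
  rw [com, ← enc_mul, ← enc_mul]
  exact ⟨fun h => enc_inj (Nat.eq_of_beq_eq_true h), fun h => by rw [h.eq]; exact Nat.beq_refl _⟩

theorem enc_cmt (x y : Hg) : enc (cmt x y) = cm (enc x) (enc y) := by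
  simp only [cmt, cm, enc_mul, enc_inv]

theorem enc_w : enc w = wP := enc_qel (by norm_num) (by norm_num) (by norm_num) (by norm_num) (by norm_num)

theorem Q1_le_S : Q1 ≤ S := Subgroup.closure_mono Set.subset_union_left

theorem hB_mem_S : hB ∈ S := Subgroup.subset_closure (Or.inr rfl)

theorem scanS_all : ∀ k < 5, scanS k = true := fun k hk => by
  interval_cases k
  exacts [scanS_ok0, scanS_ok1, scanS_ok2, scanS_ok3, scanS_ok4]

theorem scan_spec {x : Hg} (hx : x ∈ S) :
    (x ∉ Q1 → cmt (cmt (cg 1) x) x ∉ Z) ∧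
    (cmt x hB ∈ Z → cmt x (cg 1) ∈ Z → x ∈ W) ∧
    (Commute x w → x ∈ Q2) ∧
    (Commute x hB → Commute x (cg 1) → x ∈ Z) ∧
    (Commute x hB → Commute x (cg 0) → Commute x (cg 2) → Commute x (cg 3) → x ∈ W) := by
  obtain ⟨i, hi, h⟩ := (withB_iff _ _).1 ((mem_S x).1 hx)
  obtain ⟨a, ha, b, hb, ii, hii, j, hj, m, hm, e⟩ := qel_of_inU h
  let k := (5 - i) % 5
  have hx' : x = qel a b ii j m * hB ^ k := by
    rw [← e, mul_assoc, ← pow_add, pow_eq_pow_mod (i + k) b_five,
      show (i + k) % 5 = 0 by simp only [k]; omega, pow_zero, mul_one]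
  have he : enc x = mulP (qcode a b ii j m) (powP gB k) := by
    rw [hx', enc_mul, enc_pow, enc_B, enc_qel ha hb hii hj hm]
  have hs := allLt_spec (allLt_spec (allLt_spec (allLt_spec (allLt_spec (scanS_all k
    (Nat.mod_lt _ (by norm_num))) a ha) b hb) ii hii) j hj) m hm
  rw [← he] at hs
  simp only [scanOne, Bool.and_eq_true, Bool.or_eq_true, Bool.not_eq_true'] at hs
  obtain ⟨⟨s1, s2⟩, s3, s4, s5⟩ := hs
  have nb : ∀ y : Hg, Commute x y → com (enc x) (enc y) = true := fun y => (com_iff x y).2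
  refine ⟨fun hn hz => ?_, fun h1 h2 => ?_, fun h1 => ?_, fun h1 h2 => ?_, fun h1 h2 h3 h4 => ?_⟩
  · rw [mem_Z, enc_cmt, enc_cmt, enc_cg] at hz
    rcases s1 with s1 | s1
    · refine hn ?_
      rw [hx', Nat.eq_of_beq_eq_true s1, pow_zero, mul_one]
      exact (qel_mem _ _ _ _ _)
    · rw [show ((1 : Fin 5) : ℕ) = 1 from rfl] at hz
      rw [hz] at s1; cases s1
  · rw [mem_Z, enc_cmt, enc_B] at h1
    rw [mem_Z, enc_cmt, enc_cg] at h2
    rw [mem_W]
    refine s2.resolve_left fun s => ?_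
    rw [h1] at s
    simp only [Bool.true_and, show ((1 : Fin 5) : ℕ) = 1 from rfl] at s h2
    rw [h2] at s; cases s
  · rw [mem_Q2]
    refine s3.resolve_left fun s => ?_
    rw [← enc_w, nb _ h1] at s; cases s
  · rw [mem_Z]
    refine s4.resolve_left fun s => ?_
    have e1 := nb _ h1
    have e2 := nb _ h2
    rw [enc_B] at e1; rw [enc_cg] at e2
    simp only [show ((1 : Fin 5) : ℕ) = 1 from rfl] at e2
    rw [e1, e2] at s; cases s
  · rw [mem_W]
    refine s5.resolve_left fun s => ?_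
    have e1 := nb _ h1
    have e2 := nb _ h2
    have e3 := nb _ h3
    have e4 := nb _ h4
    rw [enc_B] at e1; rw [enc_cg] at e2 e3 e4
    simp only [show ((0 : Fin 5) : ℕ) = 0 from rfl, show ((2 : Fin 5) : ℕ) = 2 from rfl,
      show ((3 : Fin 5) : ℕ) = 3 from rfl] at e2 e3 e4
    rw [e1, e2, e3, e4] at s; cases s

theorem gens_commute : (allLt (fun g => com (sEl g) (sEl 4) && allLt (fun g' => inZ (cm (sEl g) (sEl g'))) 5) 5 &&
    (com gB (sEl 4) && (inZ (cm wP gB) && allLt (fun g => inZ (cm wP (sEl g)) &&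
      (Nat.beq g 1 || com wP (sEl g))) 5) && com wP gB)) = true := by
  decide +kernel

theorem cz_gens : ∀ g ∈ Set.range cg ∪ {hB}, Commute g (cg 4) := by
  have h := gens_commute
  simp only [Bool.and_eq_true] at h
  rintro g (⟨i, rfl⟩ | hg)
  · rw [← com_iff, enc_cg, enc_cg]
    have := allLt_spec h.1 i.1 i.2
    rw [Bool.and_eq_true] at this
    exact this.1
  · rw [Set.mem_singleton_iff.1 hg, ← com_iff, enc_B, enc_cg]
    exact h.2.1.1

theorem z_central {k : Hg} (hk : k ∈ Z) : ∀ g ∈ Set.range cg ∪ {hB}, Commute g k := fun g hg => by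
  induction hk using Subgroup.closure_induction with
  | mem x hx => rw [Set.mem_singleton_iff.1 hx]; exact cz_gens g hg
  | one => exact Commute.one_right g
  | mul a b _ _ ha hb => exact ha.mul_right hb
  | inv a _ ha => exact ha.inv_right

theorem Z_le_Q1 : Z ≤ Q1 := (Subgroup.closure_le _).2 (by rintro _ rfl; exact cg_mem 4)

theorem W_le_Q1 : W ≤ Q1 := by
  refine (Subgroup.closure_le _).2 ?_
  rintro x (rfl | rfl)
  · exact (qel_mem _ _ _ _ _)
  · exact cg_mem 4

theorem cen_iff (x : Hg) : Cen S x ↔ x ∈ Z := by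
  constructor
  · rintro ⟨hx, h⟩
    exact (scan_spec hx).2.2.2.1 (h _ hB_mem_S) (h _ (Q1_le_S (cg_mem 1)))
  · intro hx
    refine ⟨Q1_le_S (Z_le_Q1 hx), fun u hu => ?_⟩
    induction hu using Subgroup.closure_induction with
    | mem g hg => exact (z_central hx g hg).symm
    | one => exact Commute.one_right x
    | mul a b _ _ ha hb => exact ha.mul_right hb
    | inv a _ ha => exact ha.inv_right

theorem S_norm_Q1 {u : Hg} (hu : u ∈ S) : ∀ x ∈ Q1, u⁻¹ * x * u ∈ Q1 := by
  induction hu using Subgroup.closure_induction'' with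
  | mem g hg =>
    rcases hg with ⟨i, rfl⟩ | hg
    · exact fun x hx => mul_mem (mul_mem (inv_mem (cg_mem i)) hx) (cg_mem i)
    · rw [Set.mem_singleton_iff.1 hg]
      refine fun x hx => (conj_mem_closure (p := hB⁻¹) ?_ x hx).2 |> fun h => by
        rwa [inv_inv] at h
      rintro _ ⟨i, rfl⟩
      rw [inv_inv, ← Q1, mem_Q1, enc_mul, enc_mul, enc_inv, enc_B, enc_cg]
      have h := allLt_spec b_conj_codes i.1 i.2
      rw [Bool.and_eq_true] at h
      exact h.1
  | inv_mem g hg =>
    rcases hg with ⟨i, rfl⟩ | hg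
    · exact fun x hx => mul_mem (mul_mem (inv_mem (inv_mem (cg_mem i))) hx) (inv_mem (cg_mem i))
    · rw [Set.mem_singleton_iff.1 hg]
      refine fun x hx => (conj_mem_closure (p := hB⁻¹) ?_ x hx).1
      rintro _ ⟨i, rfl⟩
      rw [inv_inv, ← Q1, mem_Q1, enc_mul, enc_mul, enc_inv, enc_B, enc_cg]
      have h := allLt_spec b_conj_codes i.1 i.2
      rw [Bool.and_eq_true] at h
      exact h.1
  | one => intro x hx; simpa using hx
  | mul a b _ _ ha hb =>
    intro x hx
    have := hb _ (ha x hx)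
    rwa [show b⁻¹ * (a⁻¹ * x * a) * b = (a * b)⁻¹ * x * (a * b) by group] at this

theorem cmt_Q1 : ∀ x ∈ Q1, ∀ y ∈ Q1, cmt x y ∈ Z := by
  have h := gens_commute
  simp only [Bool.and_eq_true] at h
  refine cmt_closure (fun k hk g hg => z_central hk g (Or.inl hg))
    (fun k hk g hg => z_central hk g (Or.inl hg)) ?_
  rintro _ ⟨i, rfl⟩ _ ⟨j, rfl⟩
  have := allLt_spec h.1 i.1 i.2
  rw [Bool.and_eq_true] at this
  rw [mem_Z, enc_cmt, enc_cg, enc_cg]
  exact allLt_spec this.2 j.1 j.2

theorem pq1_iff (x : Hg) : PQ1 S x ↔ x ∈ Q1 := by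
  constructor
  · rintro ⟨hx, h⟩
    by_contra hn
    exact (scan_spec hx).1 hn ((cen_iff _).1 (h _ (Q1_le_S (cg_mem 1))))
  · intro hx
    refine ⟨Q1_le_S hx, fun u hu => (cen_iff _).2 (cmt_Q1 _ ?_ _ hx)⟩
    rw [cmt, show u⁻¹ * x⁻¹ * (u * x) = (u⁻¹ * x⁻¹ * u) * x by group]
    exact mul_mem (S_norm_Q1 hu _ (inv_mem hx)) hx

theorem cmt_W : ∀ x ∈ W, ∀ u ∈ S, cmt x u ∈ Z := by
  have h := gens_commute
  simp only [Bool.and_eq_true] at h
  refine cmt_closure (fun k hk g hg => ?_) (fun k hk g hg => z_central hk g hg) ?_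
  · rcases hg with rfl | rfl
    · exact (((cen_iff k).2 hk).2 _ (Q1_le_S ((qel_mem _ _ _ _ _)))).symm
    · exact z_central hk _ (Or.inl ⟨4, rfl⟩)
  rintro a (rfl | rfl) b hb
  · rcases hb with ⟨i, rfl⟩ | hb
    · rw [mem_Z, enc_cmt, enc_w, enc_cg]
      have := allLt_spec h.2.1.2.2 i.1 i.2
      rw [Bool.and_eq_true] at this
      exact this.1
    · rw [Set.mem_singleton_iff.1 hb, mem_Z, enc_cmt, enc_w, enc_B]
      exact h.2.1.2.1
  · rw [show cmt (cg 4) b = 1 by
      simp only [cmt]; rw [(cz_gens b hb).symm.eq]; group]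
    exact one_mem _

theorem pw_iff (x : Hg) : PW S x ↔ x ∈ W := by
  constructor
  · rintro ⟨hx, h⟩
    exact (scan_spec hx).2.1 ((cen_iff _).1 (h _ hB_mem_S)) ((cen_iff _).1 (h _ (Q1_le_S (cg_mem 1))))
  · exact fun hx => ⟨Q1_le_S (W_le_Q1 hx), fun u hu => (cen_iff _).2 (cmt_W x hx u hu)⟩

theorem Q2_le_S : Q2 ≤ S := by
  refine Subgroup.closure_mono (Set.union_subset_union_left _ ?_)
  intro g hg
  simp only [dGens, Set.mem_insert_iff, Set.mem_singleton_iff] at hg
  rcases hg with rfl | rfl | rfl | rfl <;> exact Set.mem_range_self _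

theorem commute_Q2_W : ∀ x ∈ Q2, ∀ y ∈ W, Commute x y := by
  intro x hx y hy
  refine commute_of_cmt (Subgroup.mem_bot.1 (cmt_closure (K := ⊥) ?_ ?_ ?_ x hx y hy))
  · rintro k hk g -; rw [Subgroup.mem_bot.1 hk]; exact Commute.one_right g
  · rintro k hk g -; rw [Subgroup.mem_bot.1 hk]; exact Commute.one_right g
  have h := gens_commute
  simp only [Bool.and_eq_true] at h
  have key : ∀ g ∈ dGens ∪ {hB}, Commute g w ∧ Commute g (cg 4) := by
    intro g hg
    refine ⟨?_, cz_gens g ?_⟩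
    · refine Commute.symm ((com_iff _ _).1 ?_)
      rw [enc_w]
      rcases hg with hg | hg
      · simp only [dGens, Set.mem_insert_iff, Set.mem_singleton_iff] at hg
        rcases hg with rfl | rfl | rfl | rfl <;> rw [enc_cg]
        all_goals decide +kernel
      · rw [Set.mem_singleton_iff.1 hg, enc_B]; exact h.2.2
    · rcases hg with hg | hg
      · simp only [dGens, Set.mem_insert_iff, Set.mem_singleton_iff] at hg
        rcases hg with rfl | rfl | rfl | rfl <;> exact Or.inl (Set.mem_range_self _)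
      · exact Or.inr hg
  rintro a ha b (rfl | rfl)
  · rw [Subgroup.mem_bot, cmt, (key a ha).1.eq]; group
  · rw [Subgroup.mem_bot, cmt, (key a ha).2.eq]; group

theorem pq2_iff (x : Hg) : PQ2 S x ↔ x ∈ Q2 := by
  constructor
  · rintro ⟨hx, h⟩
    exact (scan_spec hx).2.2.1 (h w ((pw_iff w).2 (Subgroup.subset_closure (by simp))))
  · exact fun hx => ⟨Q2_le_S hx, fun u hu => commute_Q2_W x hx u ((pw_iff u).1 hu)⟩

theorem mem_D_iff (x : Hg) : x ∈ D ↔ x ∈ Q1 ∧ x ∈ Q2 := by
  constructor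
  · intro h
    refine ⟨?_, Subgroup.closure_mono Set.subset_union_left h⟩
    rw [mem_Q1]; rw [mem_D, inD, Bool.and_eq_true] at h; exact h.1
  · rintro ⟨h1, h2⟩
    obtain ⟨i, hi, h⟩ := (withB_iff _ _).1 ((mem_Q2 x).1 h2)
    have hb : hB ^ i ∈ Q1 := by
      have h' : x * hB ^ i ∈ Q1 := by
        rw [mem_Q1]; rw [inD, Bool.and_eq_true] at h; exact h.1
      simpa using mul_mem (inv_mem h1) h'
    have hd : allLt (fun i => Nat.beq i 0 || !(inU (powP gB i))) 5 = true := by decide +kernel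
    have h0 := allLt_spec hd i hi
    rw [mem_Q1, enc_pow, enc_B] at hb
    rw [hb, Bool.not_true, Bool.or_false] at h0
    obtain rfl := Nat.eq_of_beq_eq_true h0
    rw [mem_D]; simpa using h

end CfsgLib.LyAut84
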