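import Cfsg.Agent.LyAut84.Local

/-!
The six lines: the parabolic subgroup permutes them, the extra element does not; the action of the
candidates on them.
-/

set_option autoImplicit false
set_option maxRecDepth 100000
set_option linter.style.haveILetI false

namespace CfsgLib.LyAut84

open CfsgLib.Ly33 Cfsg.Spor

attribute [local irreducible] mulP invP cparts glIx el xEl yEl zEl lwEl xIm yIm zIm lwIm sEl sIm gA gB gC gD oneP inC inPar tqIx tiIx r5Ix r5IIx trq

/-- representatives of the lines -/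
noncomputable def rep6 (r : ℕ) : Hg := if r = 5 then 1 else ab r

theorem enc_rep6 (r : ℕ) : enc (rep6 r) = repP6 r := by
  rw [rep6, repP6]
  split
  · next h => subst h; simp only [show Nat.beq 5 5 = true from rfl, cond_true]; exact enc_one
  · next h => rw [nbeq h, cond_false, enc_ab]

theorem rep6_mem (r : ℕ) : rep6 r ∈ P1 := by
  rw [rep6]; split
  · exact one_mem _
  · exact mul_mem A_mem_P1 (pow_mem B_mem_P1 r)

/-- the union of the six lines -/
def OSet : Set Hg := {x | ∃ r < 6, rep6 r * x * (rep6 r)⁻¹ ∈ W}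

theorem inO_iff (x : Hg) : inO (enc x) = true ↔ x ∈ OSet := by
  simp only [inO, List.any_eq_true, List.mem_range, OSet, Set.mem_setOf_eq]
  refine exists_congr fun r => and_congr_right fun _ => ?_
  rw [mem_W, enc_mul, enc_mul, enc_inv, enc_rep6]

theorem OSet_le {x : Hg} (hx : x ∈ OSet) : x ∈ Q1 := by
  obtain ⟨r, -, h⟩ := hx
  have := (conj_Q1 (rep6_mem r) _ (W_le_Q1 h)).1
  rwa [show (rep6 r)⁻¹ * (rep6 r * x * (rep6 r)⁻¹) * rep6 r = x by group] at this

theorem OSet_form {x : Hg} (hx : x ∈ OSet) : ∃ r < 6, ∃ a < 5, ∃ m < 5, enc x = oEl r a m := by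
  obtain ⟨r, hr, h⟩ := hx
  obtain ⟨a, ha, m, hm, e⟩ := (inW_iff_qel _).1 ((mem_W _).1 h)
  refine ⟨r, hr, a, ha, m, hm, ?_⟩
  rw [oEl, ← enc_qel ha (by norm_num) (by omega) (by omega) hm, ← e, ← enc_rep6, ← enc_conj]
  congr 1; group

theorem mem_OSet_oEl {r a m : ℕ} (hr : r < 6) (ha : a < 5) (hm : m < 5) :
    ∃ x ∈ OSet, enc x = oEl r a m := by
  refine ⟨(rep6 r)⁻¹ * qel a 0 (2 * a % 5) (2 * a % 5) m * rep6 r, ⟨r, hr, ?_⟩, ?_⟩
  · rw [mem_W, inW_iff_qel]; exact ⟨a, ha, m, hm, by group⟩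
  · rw [enc_conj, enc_qel ha (by norm_num) (by omega) (by omega) hm, enc_rep6]; rfl

theorem P1_lines {p : Hg} (hp : p ∈ P1) : ∀ x ∈ OSet, p⁻¹ * x * p ∈ OSet := by
  rw [Pg_eq, ← Subgroup.mem_toSubmonoid, Subgroup.closure_toSubmonoid_of_finite] at hp
  induction hp using Submonoid.closure_induction with
  | mem g hg =>
    intro x hx
    obtain ⟨r, hr, a, ha, m, hm, e⟩ := OSet_form hx
    have h := allLt_spec (allLt_spec (allLt_spec lines_closed r hr) a ha) m hm
    simp only [Bool.and_eq_true] at h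
    rw [← inO_iff, enc_conj, e]
    simp only [Set.mem_insert_iff, Set.mem_singleton_iff] at hg
    rcases hg with rfl | rfl | rfl
    · rw [enc_A]; exact h.1
    · rw [enc_B]; exact h.2.1
    · rw [enc_C]; exact h.2.2
  | one => intro x hx; simpa using hx
  | mul a b _ _ ha hb =>
    intro x hx
    have := hb _ (ha x hx)
    rwa [show b⁻¹ * (a⁻¹ * x * a) * b = (a * b)⁻¹ * x * (a * b) by group] at this

/-- conjugation by an element of the big group read as a map on codes of the radical -/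
def Cj (g : Cfsg.Spor.Ly) (f : ℕ → ℕ) : Prop :=
  ∀ x ∈ Q1, ∃ y ∈ Q1, enc y = f (enc x) ∧ g⁻¹ * phiLy x * g = phiLy y

theorem Cj.comp {g g' : Cfsg.Spor.Ly} {f f' : ℕ → ℕ} (h : Cj g f) (h' : Cj g' f') :
    Cj (g * g') (fun n => f' (f n)) := by
  intro x hx
  obtain ⟨y, hy, e, ey⟩ := h x hx
  obtain ⟨y', hy', e', ey'⟩ := h' y hy
  refine ⟨y', hy', by rw [e', e], ?_⟩
  rw [← ey', ← ey]; group

theorem cj_el {p : Hg} (hp : p ∈ P1) : Cj (phiLy p) (fun n => cnj n (enc p)) := fun x hx =>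
  ⟨p⁻¹ * x * p, (conj_Q1 hp x hx).1, enc_conj x p, by rw [map_mul, map_mul, map_inv]⟩

theorem act_append (l l' : List Stp) (n : ℕ) : act (l ++ l') n = act l' (act l n) :=
  List.foldl_append ..

theorem act_tz : act [.tz] = zc := by
  funext n; rw [act_cons, act_nil, stp]

theorem act_el_tz (h : ℕ) : act [.el h, .tz] = fun n => zc (cnj n h) := by
  funext n; rw [act_cons, act_cons, act_nil, stp, stp]

theorem act_el (h n : ℕ) : act [.el h] n = cnj n h := by
  rw [act_cons, act_nil, stp]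

section Exact

variable (hex : HL.index = 8835156)
include hex

theorem cj_tz : Cj tz zc := by
  intro x hx
  have hx' := (mem_Q1 x).1 hx
  rw [inU, Bool.and_eq_true] at hx'
  obtain ⟨hp, he⟩ := inC_spec hx'.1
  obtain ⟨x', y, hxe, hye, h⟩ := rel_parts lySetup.Tw lySetup.tw_one lySetup.tw_seed
    (fun h h' => lySetup.tw_mul h h') hp
  obtain rfl : x' = x := enc_inj (hxe.trans he.symm)
  have h1 : tz⁻¹ * phiLy x' * tz = phiLy y := by
    rw [mul_assoc, show phiLy x' * tz = tz * phiLy y from h, inv_mul_cancel_left]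
  refine ⟨y, ?_, hye, h1⟩
  obtain ⟨d, hd, hde⟩ := (tz_conj_C hex (cset_of_Q1 hx)).1
  obtain rfl : y = d := phiLy_injective (h1.symm.trans hde)
  refine mem_Q1_of_pow hd (phiLy_injective ?_)
  rw [map_pow, ← h1, map_one, show tz⁻¹ * phiLy x' * tz = tz⁻¹ * phiLy x' * tz⁻¹⁻¹ by group, conj_pow,
    ← map_pow, pow_twentyfive_S (Q1_le_S hx), map_one, mul_one, mul_inv_cancel]

/-- preserving the union of the lines -/
def Pres (g : Cfsg.Spor.Ly) : Prop := ∀ x ∈ OSet, ∃ y ∈ OSet, g⁻¹ * phiLy x * g = phiLy y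

theorem pres_P1 {g : Cfsg.Spor.Ly} (hn : ∀ x ∈ Q1, g * phiLy x * g⁻¹ ∈ Q1.map phiLy) (hg : Pres g) :
    ∃ p ∈ P1, g = phiLy p := by
  refine (norm_Q1 hex hn).resolve_right ?_
  rintro ⟨p, hp, k, hk, e⟩
  obtain ⟨r, hr, hm⟩ := List.any_eq_true.1 (allLt_spec lines_moved k hk)
  rw [List.mem_range] at hr
  obtain ⟨x, hx, hxe⟩ := mem_OSet_oEl hr (show 1 < 5 by norm_num) (show 0 < 5 by norm_num)
  obtain ⟨y, hy, he⟩ := hg _ (P1_lines (inv_mem hp) x hx)
  obtain ⟨u, hu, hue, hu2⟩ := ((cj_tz hex).comp (cj_el (pow_mem B_mem_P1 k))) x (OSet_le hx)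
  have huy : u = y := by
    refine phiLy_injective ?_
    rw [← hu2, ← he, e, map_mul, map_mul, map_inv, map_inv]; group
  subst huy
  have := (inO_iff u).2 hy
  rw [hue, hxe, enc_pow, enc_B] at this
  simp [this] at hm

end Exact

/-- the candidates -/
noncomputable def Rv (r : ℕ) : Cfsg.Spor.Ly := if r = 5 then tz else phiLy (ab r) * tz

/-- the products at the candidates -/
noncomputable def prodVal (r : ℕ) : List ℕ → Cfsg.Spor.Ly
  | [] => 1
  | k :: l => Rv r * phiLy (hB ^ k) * prodVal r l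

theorem cj_rep (hex : HL.index = 8835156) (r : ℕ) : Cj (Rv r) (act (repSteps r)) := by
  rw [Rv, repSteps]
  split
  · next h => subst h; rw [show Nat.beq 5 5 = true from rfl, cond_true, act_tz]; exact cj_tz hex
  · next h =>
    rw [nbeq h, cond_false, act_el_tz, ← enc_ab]
    exact (cj_el (mul_mem A_mem_P1 (pow_mem B_mem_P1 r))).comp (cj_tz hex)

theorem cj_prod (hex : HL.index = 8835156) (r : ℕ) : ∀ l : List ℕ,
    Cj (prodVal r l) (act (l.flatMap fun k => repSteps r ++ [.el (powP gB k)]))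
  | [] => fun x hx => ⟨x, hx, by rw [List.flatMap_nil, act_nil], by simp [prodVal]⟩
  | k :: l => by
    have h := ((cj_rep hex r).comp (cj_el (pow_mem B_mem_P1 k))).comp (cj_prod hex r l)
    intro x hx
    obtain ⟨y, hy, e, e2⟩ := h x hx
    refine ⟨y, hy, ?_, e2⟩
    rw [e, enc_pow, enc_B, List.flatMap_cons, act_append, act_append, act_el]

end CfsgLib.LyAut84
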