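import Cfsg.Agent.LyAut84.Borel
import Cfsg.Agent.Ly95.Glue

/-!
The normalisers of the two radicals in the presented Lyons group, from the double coset certificate
with exact index.
-/

set_option autoImplicit false
set_option maxRecDepth 100000
set_option linter.style.haveILetI false

namespace CfsgLib.LyAut84

open CfsgLib.Ly33 CfsgLib.DCert22 Cfsg.Spor

attribute [local irreducible] mulP invP cparts glIx el xEl yEl zEl lwEl xIm yIm zIm lwIm sEl sIm gA gB gC gD oneP inC inPar tqIx tiIx r5Ix r5IIx trq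

/-- the extra generator -/
noncomputable def tz : Cfsg.Spor.Ly := LyCover50.lg .z

/-- the subgroup of index 8835156 -/
abbrev HL : Subgroup Cfsg.Spor.Ly :=
  (Subgroup.closure ({Ly.a, Ly.b, Ly.c, Ly.d} : Set (FreeGroup Ly.Gen))).map
    (PresentedGroup.mk (coxRelators Ly.edges ∪ {r | r ∈ Ly.extra}))

theorem psi_mem (h : Hg) : phiLy h ∈ HL := phiLy_range.le ⟨h, rfl⟩

theorem exists_of_mem {g : Cfsg.Spor.Ly} (h : g ∈ HL) : ∃ x, phiLy x = g := phiLy_range.ge h

theorem tz_sq : tz * tz = phiLy (hA ^ 2) := lySetup.t_sq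

theorem grep_one : grep lySetup.model cert 1 = tz := by
  show (1 : Cfsg.Spor.Ly) * lySetup.model.val _ * lySetup.t = _
  rw [show (39402006196394479214415027136064523887590553065872314977980846013346449130061698275692255149584597951633472719159297 : ℕ) = enc (1 : Hg) by rw [enc_one]; decide +kernel, one_mul]
  erw [lySetup.model.val_enc]
  rw [map_one, one_mul]
  rfl

/-- the elements of the group of order 300000 form a subgroup -/
noncomputable def Cgrp : Subgroup Hg where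
  carrier := Cset
  one_mem' := one_mem_Cset
  mul_mem' := fun hx hy => cset_mul_cset hx hy
  inv_mem' := fun {x} hx => Setup.cset_inv hx

theorem a2_mem_C : hA ^ 2 ∈ Cgrp := mem_Cset_of_inC (by rw [enc_pow, enc_A]; decide +kernel)

theorem card_Cgrp : 300000 ≤ Nat.card Cgrp := by
  let f : Fin 25 × Fin 25 × Fin 5 × Fin 96 → Cgrp := fun v =>
    ⟨cEl (v.1.1, v.2.1.1, v.2.2.1.1, v.2.2.2.1) ⟨v.1.2, v.2.1.2, v.2.2.1.2, v.2.2.2.2⟩,
      _, ⟨v.1.2, v.2.1.2, v.2.2.1.2, v.2.2.2.2⟩, (cEl_spec _ _).1⟩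
  have key : ∀ (v v' : Fin 25 × Fin 25 × Fin 5 × Fin 96) (i : Fin 5) (q : Fin 3906),
      (f v : Hg) = f v' → ofDom (v, i, q) = ofDom (v', i, q) := fun v v' i q h =>
    congrArg (fun x : Hg => x * r5H i * tqH q) h
  have hf : Function.Injective f := fun v v' h =>
    congrArg Prod.fst (ofDom_bij.1 (key v v' ⟨0, by norm_num⟩ ⟨0, by norm_num⟩ (congrArg Subtype.val h)))
  calc 300000 = Nat.card (Fin 25 × Fin 25 × Fin 5 × Fin 96) := by simp
    _ ≤ Nat.card Cgrp := Nat.card_le_card_of_injective f hf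

section Exact

variable (hex : HL.index = 8835156)
include hex

theorem card_stab {a : ℕ} (ha : a ∈ live) : Nat.card (stab lySetup.model HL cert a) = Setup.kLow a :=
  lySetup.stab_card_eq lySetup_gen hex ha

theorem mem_stab_one {k : Hg} (h : tz * phiLy k * tz⁻¹ ∈ HL) : k ∈ stab lySetup.model HL cert 1 := by
  show grep lySetup.model cert 1 * phiLy k * (grep lySetup.model cert 1)⁻¹ ∈ HL
  rw [grep_one]; exact h

theorem stab_one : stab lySetup.model HL cert 1 = Cgrp := by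
  symm
  refine Subgroup.eq_of_le_of_card_ge (fun c hc => mem_stab_one hex ?_) ?_
  · obtain ⟨d, hd⟩ := lySetup.mem_cset_cim hc
    have h1 : tz⁻¹ * phiLy c * tz = phiLy d := by
      rw [mul_assoc, show phiLy c * tz = tz * phiLy d from hd, inv_mul_cancel_left]
    have h2 : tz * phiLy c * tz⁻¹ = phiLy (hA ^ 2) * (tz⁻¹ * phiLy c * tz) * (phiLy (hA ^ 2))⁻¹ := by
      rw [← tz_sq]; group
    rw [h2, h1]
    exact mul_mem (mul_mem (psi_mem _) (psi_mem _)) (inv_mem (psi_mem _))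
  · rw [card_stab hex (by decide)]; exact card_Cgrp

theorem tz_conj_C {c : Hg} (hc : c ∈ Cgrp) :
    (∃ d ∈ Cgrp, tz⁻¹ * phiLy c * tz = phiLy d) ∧ (∃ d ∈ Cgrp, tz * phiLy c * tz⁻¹ = phiLy d) := by
  have key : ∀ c ∈ Cgrp, ∃ d ∈ Cgrp, tz⁻¹ * phiLy c * tz = phiLy d := by
    intro c hc
    obtain ⟨d, hd⟩ := lySetup.mem_cset_cim hc
    have h1 : tz⁻¹ * phiLy c * tz = phiLy d := by
      rw [mul_assoc, show phiLy c * tz = tz * phiLy d from hd, inv_mul_cancel_left]
    refine ⟨d, ?_, h1⟩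
    rw [← stab_one hex]
    refine mem_stab_one hex ?_
    rw [← h1, show tz * (tz⁻¹ * phiLy c * tz) * tz⁻¹ = phiLy c by group]
    exact psi_mem c
  refine ⟨key c hc, ?_⟩
  obtain ⟨d, hd, h1⟩ := key c hc
  refine ⟨hA ^ 2 * d * (hA ^ 2)⁻¹, mul_mem (mul_mem a2_mem_C hd) (inv_mem a2_mem_C), ?_⟩
  rw [map_mul, map_mul, map_inv, ← h1, ← tz_sq]; group

/-- An element normalising a subgroup containing the second centre and inside the Sylow subgroup
moves it into the first radical when it is outside the subgroup of index 8835156. -/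
theorem norm_cases {Q : Subgroup Hg} (hW : W ≤ Q) (hS : Q ≤ S) {g : Cfsg.Spor.Ly}
    (hg : ∀ x ∈ Q, g * phiLy x * g⁻¹ ∈ Q.map phiLy) :
    g ∈ HL ∨ ∃ h y : Hg, g = phiLy h * tz * phiLy y ∧ ∀ x ∈ Q, y * x * y⁻¹ ∈ Q1 := by
  obtain ⟨b, hb, n, ⟨y, rfl⟩, hr⟩ := lySetup.covered lySetup_gen g
  rw [stVal, lySetup.model.val_enc] at hr
  obtain ⟨h, hh⟩ := exists_of_mem hr
  have e : g = phiLy h * grep lySetup.model cert b * phiLy y := by
    rw [hh]
    show g = g * (grep lySetup.model cert b * phiLy y)⁻¹ * grep lySetup.model cert b * phiLy y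
    group
  have hst : ∀ x ∈ Q, y * x * y⁻¹ ∈ stab lySetup.model HL cert b := fun x hx => by
    show grep lySetup.model cert b * phiLy (y * x * y⁻¹) * (grep lySetup.model cert b)⁻¹ ∈ HL
    obtain ⟨x', -, hx'⟩ := hg x hx
    have : grep lySetup.model cert b * phiLy (y * x * y⁻¹) * (grep lySetup.model cert b)⁻¹ =
        (phiLy h)⁻¹ * phiLy x' * phiLy h := by
      rw [hx', map_mul, map_mul, map_inv, e]; group
    rw [this]
    exact mul_mem (mul_mem (inv_mem (psi_mem h)) (psi_mem x')) (psi_mem h)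
  have hdvd : 25 ∣ Setup.kLow b := by
    rw [← card_stab hex hb]
    have h1 : W.map (MulAut.conj y).toMonoidHom ≤ stab lySetup.model HL cert b := by
      rintro _ ⟨x, hx, rfl⟩; exact hst x (hW hx)
    have h2 := Subgroup.card_dvd_of_le h1
    rwa [Nat.card_congr (Subgroup.equivMapOfInjective W _ (MulAut.conj y).injective).toEquiv.symm,
      card_W] at h2
  simp only [live, List.mem_cons, List.not_mem_nil, or_false] at hb
  rcases hb with rfl | rfl | rfl | rfl | rfl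
  · left
    rw [e, show grep lySetup.model cert 0 = 1 from rfl, mul_one]
    exact mul_mem (psi_mem h) (psi_mem y)
  · refine .inr ⟨h, y, by rw [e, grep_one], fun x hx => ?_⟩
    have h1 : y * x * y⁻¹ ∈ Cgrp := stab_one hex ▸ hst x hx
    refine mem_Q1_of_pow h1 ?_
    rw [conj_pow, pow_twentyfive_S (hS hx), mul_one, mul_inv_cancel]
  all_goals (revert hdvd; simp [Setup.kLow])

theorem norm_Q2 {g : Cfsg.Spor.Ly} (hg : ∀ x ∈ Q2, g * phiLy x * g⁻¹ ∈ Q2.map phiLy) : g ∈ HL := by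
  have hWQ : W ≤ Q2 := W_le_Q2
  refine (norm_cases hex hWQ Q2_le_S hg).resolve_right ?_
  rintro ⟨h, y, -, hy⟩
  have hQ : ∀ x ∈ Q2, y * x * y⁻¹ ∈ Q1 := hy
  have hback : ∀ q ∈ Q1, y⁻¹ * q * y ∈ Q2 := by
    let f : Q2 → Q1 := fun x => ⟨_, hQ x x.2⟩
    have hf : Function.Injective f := fun a b e => Subtype.ext (by
      simpa [f] using congrArg Subtype.val e)
    have hsur := ((Nat.bijective_iff_injective_and_card f).2 ⟨hf, card_Q2.trans card_Q1.symm⟩).2
    intro q hq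
    obtain ⟨x, hx⟩ := hsur ⟨q, hq⟩
    have : y * (x : Hg) * y⁻¹ = q := congrArg Subtype.val hx
    rw [← this, show y⁻¹ * (y * (x : Hg) * y⁻¹) * y = x by group]
    exact x.2
  have hz : ∀ u ∈ W, y * u * y⁻¹ ∈ Z := fun u hu => comm_Q1_Z (hQ u (hWQ hu)) fun i => by
    have := (commute_Q2_W _ (hback _ (cg_mem i)) u hu).map (MulAut.conj y).toMonoidHom
    simpa [MulAut.conj_apply, mul_assoc] using this.symm
  have hle : W.map (MulAut.conj y).toMonoidHom ≤ Z := by rintro _ ⟨x, hx, rfl⟩; exact hz x hx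
  have h2 := Subgroup.card_dvd_of_le hle
  rw [Nat.card_congr (Subgroup.equivMapOfInjective W _ (MulAut.conj y).injective).toEquiv.symm,
    card_W, show Nat.card Z = orderOf (cg 4) by
      rw [← Nat.card_zpowers, Z, Subgroup.zpowers_eq_closure]] at h2
  have h3 : orderOf (cg 4) ∣ 5 := orderOf_dvd_of_pow_eq_one (pow_five_Q1 (cg_mem 4))
  exact absurd (h2.trans h3) (by norm_num)

theorem P1_split_b {y : Hg} (hy : y ∈ P1) : ∃ c ∈ Cgrp, ∃ k < 5, y = c * hB ^ k := by
  obtain ⟨c, hc, i, hi, rfl⟩ := (mem_P1 y).1 hy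
  obtain ⟨k, hk, h⟩ := List.any_eq_true.1 (allLt_spec five_split i hi)
  refine ⟨c * (r5H i * (hB ^ k)⁻¹), mul_mem hc (mem_Cset_of_inC ?_), k, List.mem_range.1 hk, by group⟩
  rw [enc_mul, (r5H_spec hi).1, enc_inv, enc_pow, enc_B]
  exact h

theorem norm_Q1 {g : Cfsg.Spor.Ly} (hg : ∀ x ∈ Q1, g * phiLy x * g⁻¹ ∈ Q1.map phiLy) :
    (∃ p ∈ P1, g = phiLy p) ∨ ∃ p ∈ P1, ∃ k < 5, g = phiLy p * tz * phiLy (hB ^ k) := by
  have inH : ∀ h : Hg, (∀ x ∈ Q1, phiLy h * phiLy x * (phiLy h)⁻¹ ∈ Q1.map phiLy) → h ∈ P1 := by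
    intro h hh
    refine P1_of_norm_Q1 fun x hx => (Subgroup.mem_map_iff_mem phiLy_injective).1 ?_
    rw [map_mul, map_mul, map_inv]; exact hh x hx
  rcases norm_cases hex W_le_Q1 Q1_le_S hg with h | ⟨h, y, e, hy⟩
  · obtain ⟨p, rfl⟩ := exists_of_mem h
    exact .inl ⟨p, inH p hg, rfl⟩
  have hyP : y ∈ P1 := P1_of_norm_Q1 hy
  obtain ⟨c, hc, k, hk, rfl⟩ := P1_split_b hex hyP
  obtain ⟨d, hd, hde⟩ := (tz_conj_C hex hc).2
  have e2 : g = phiLy (h * d) * tz * phiLy (hB ^ k) := by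
    rw [e, map_mul, map_mul, ← hde]; group
  refine .inr ⟨h * d, inH _ fun x hx => ?_, k, hk, e2⟩
  have hx' : tz⁻¹ * phiLy x * tz ∈ Q1.map phiLy := by
    obtain ⟨d', hd', hde'⟩ := (tz_conj_C hex (c := x) (cset_of_Q1 hx)).1
    rw [hde']
    refine Subgroup.mem_map_of_mem _ (mem_Q1_of_pow hd' (phiLy_injective ?_))
    rw [map_pow, ← hde', map_one, show tz⁻¹ * phiLy x * tz = tz⁻¹ * phiLy x * tz⁻¹⁻¹ by group, conj_pow,
      ← map_pow, pow_twentyfive_S (Q1_le_S hx), map_one, mul_one, mul_inv_cancel]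
  obtain ⟨x1, hx1, hxe⟩ := hx'
  have := hg ((hB ^ k)⁻¹ * x1 * hB ^ k) ?_
  · rw [e2] at this
    convert this using 1
    simp only [map_mul, map_inv, hxe]; group
  · exact (conj_Q1 (pow_mem B_mem_P1 k) x1 hx1).1

end Exact

end CfsgLib.LyAut84
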