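import Cfsg.Agent.LyAut84.Auto

/-!
Every automorphism of the presented Lyons group is inner, given its order.
-/

set_option autoImplicit false
set_option maxRecDepth 100000
set_option linter.style.haveILetI false

namespace CfsgLib.LyAut84

open CfsgLib.Ly33 Cfsg.Spor

attribute [local irreducible] mulP invP cparts glIx el xEl yEl zEl lwEl xIm yIm zIm lwIm sEl sIm gA gB gC gD oneP inC inPar tqIx tiIx r5Ix r5IIx trq

theorem fixS_mul {θ θ' : MulAut Cfsg.Spor.Ly} (h : FixS θ) (h' : FixS θ') : FixS (θ * θ') := by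
  unfold FixS at *
  rw [show (θ * θ').toMonoidHom = θ.toMonoidHom.comp θ'.toMonoidHom from rfl, ← Subgroup.map_map, h', h]

theorem exists_fixS [Finite Cfsg.Spor.Ly] (hcard : Nat.card Cfsg.Spor.Ly = 51765179004000000)
    (θ : MulAut Cfsg.Spor.Ly) : ∃ g, FixS (MulAut.conj g * θ) := by
  haveI : Fact (Nat.Prime 5) := ⟨by norm_num⟩
  have hf : (Nat.card Cfsg.Spor.Ly).factorization 5 = 6 := by
    rw [hcard, show 51765179004000000 = 5 ^ 6 * 3312971456256 by norm_num,
      Nat.factorization_mul (by norm_num) (by norm_num), Finsupp.add_apply,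
      Nat.Prime.factorization_pow (by norm_num), Finsupp.single_eq_same,
      Nat.factorization_eq_zero_of_not_dvd (by norm_num), add_zero]
  have hc : Nat.card (S.map phiLy) = 15625 := by
    rw [Nat.card_congr (Subgroup.equivMapOfInjective S phiLy phiLy_injective).toEquiv.symm, card_S]
  let P : Sylow 5 Cfsg.Spor.Ly := Sylow.ofCard (S.map phiLy) (by rw [hc, hf]; norm_num)
  let P' : Sylow 5 Cfsg.Spor.Ly := Sylow.ofCard ((S.map phiLy).map θ.toMonoidHom) (by
    rw [Nat.card_congr (Subgroup.equivMapOfInjective _ θ.toMonoidHom θ.injective).toEquiv.symm, hc, hf]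
    norm_num)
  obtain ⟨g, hg⟩ := MulAction.exists_smul_eq Cfsg.Spor.Ly P' P
  refine ⟨g, ?_⟩
  have h := congrArg Sylow.toSubgroup hg
  rw [Sylow.smul_def, Sylow.pointwise_smul_def] at h
  unfold FixS
  rw [show (MulAut.conj g * θ).toMonoidHom = (MulAut.conj g).toMonoidHom.comp θ.toMonoidHom from rfl,
    ← Subgroup.map_map]
  exact h

section Exact

variable (hex : HL.index = 8835156)
include hex

theorem exists_fixT {θ : MulAut Cfsg.Spor.Ly} (h : FixS θ) :
    ∃ g, FixS (MulAut.conj g * θ) ∧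
      ∀ n < 16, ∃ n' < 16, (MulAut.conj g * θ) (phiLy (tor n)) = phiLy (tor n') := by
  set B' := Bg.map phiLy with hB'
  have hcB : Nat.card B' = 250000 := by
    rw [Nat.card_congr (Subgroup.equivMapOfInjective Bg phiLy phiLy_injective).toEquiv.symm, card_Bg]
  haveI : Finite B' := Nat.finite_of_card_ne_zero (by rw [hcB]; norm_num)
  haveI : Fact (Nat.Prime 2) := ⟨by norm_num⟩
  have hf : (Nat.card B').factorization 2 = 4 := by
    rw [hcB, show 250000 = 2 ^ 4 * 15625 by norm_num,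
      Nat.factorization_mul (by norm_num) (by norm_num), Finsupp.add_apply,
      Nat.Prime.factorization_pow (by norm_num), Finsupp.single_eq_same,
      Nat.factorization_eq_zero_of_not_dvd (by norm_num), add_zero]
  have hcT : Nat.card (Tg.map phiLy) = 16 := by
    rw [Nat.card_congr (Subgroup.equivMapOfInjective Tg phiLy phiLy_injective).toEquiv.symm, card_Tg]
  have hT1 : Tg.map phiLy ≤ B' := Subgroup.map_mono Tg_le_Bg
  have hT2 : (Tg.map phiLy).map θ.toMonoidHom ≤ B' := by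
    rintro _ ⟨_, ⟨t, ht, rfl⟩, rfl⟩
    obtain ⟨p, hp, e⟩ := nk_Bg hex (h.nk (nk_of_normS (Tg_le_Bg ht)))
    exact ⟨p, hp, e.symm⟩
  let P : Sylow 2 B' := Sylow.ofCard ((Tg.map phiLy).subgroupOf B') (by
    rw [Nat.card_congr (Subgroup.subgroupOfEquivOfLe hT1).toEquiv, hcT, hf]; norm_num)
  let P' : Sylow 2 B' := Sylow.ofCard (((Tg.map phiLy).map θ.toMonoidHom).subgroupOf B') (by
    rw [Nat.card_congr (Subgroup.subgroupOfEquivOfLe hT2).toEquiv,
      Nat.card_congr (Subgroup.equivMapOfInjective _ θ.toMonoidHom θ.injective).toEquiv.symm, hcT, hf]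
    norm_num)
  obtain ⟨⟨g, hgB⟩, hg⟩ := MulAction.exists_smul_eq B' P' P
  obtain ⟨p, hp, rfl⟩ := hgB
  refine ⟨phiLy p, fixS_mul (nk_of_normS hp) h, fun n hn => ?_⟩
  have ht : θ (phiLy (tor n)) ∈ (Tg.map phiLy).map θ.toMonoidHom :=
    ⟨_, ⟨tor n, (mem_Tg _).2 ⟨n, hn, rfl⟩, rfl⟩, rfl⟩
  have h2 : (MulAut.conj (⟨phiLy p, ⟨p, hp, rfl⟩⟩ : B')) ⟨_, hT2 ht⟩ ∈ (P : Subgroup B') := by
    rw [← hg, Sylow.coe_subgroup_smul]
    exact Subgroup.smul_mem_pointwise_smul _ _ _ (Subgroup.mem_subgroupOf.2 ht)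
  obtain ⟨t, ht', e⟩ := Subgroup.mem_subgroupOf.1 h2
  obtain ⟨n', hn', rfl⟩ := (mem_Tg t).1 ht'
  exact ⟨n', hn', e.symm⟩

theorem exists_fix_frame {θ : MulAut Cfsg.Spor.Ly} (h : FixS θ)
    (hT : ∀ n < 16, ∃ n' < 16, θ (phiLy (tor n)) = phiLy (tor n')) :
    ∃ g, (∀ x ∈ S, (MulAut.conj g * θ) (phiLy x) = phiLy x) ∧
      (∀ n < 16, (MulAut.conj g * θ) (phiLy (tor n)) = phiLy (tor n)) ∧ FixS (MulAut.conj g * θ) := by
  obtain ⟨u, hu, eu⟩ := h.pres.2.1 (show hB ∈ Q2 from Subgroup.subset_closure (Or.inr rfl))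
  obtain ⟨v, hv, ev⟩ := h.pres.1 x1_mem
  have pullD : ∀ y ∈ D, ∀ x : Hg, θ (phiLy x) = phiLy y → x ∈ D := fun y hy x e => by
    obtain ⟨x', hx', e'⟩ := h.symm.pres_D hy
    rw [← e, θ.symm_apply_apply] at e'
    rw [phiLy_injective e']; exact hx'
  obtain ⟨i, hi, hui⟩ := (withB_iff _ _).1 ((mem_Q2 u).1 hu)
  rw [← mem_D] at hui
  obtain ⟨j, hj, hvj⟩ := Q1_split hv
  have hi0 : i ≠ 0 := by
    rintro rfl
    rw [pow_zero, mul_one] at hui
    exact hB_not_D (pullD u hui _ eu)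
  have hj0 : j ≠ 0 := by
    rintro rfl
    rw [pow_zero, mul_one] at hvj
    exact x1_not_D (pullD v hvj _ ev)
  set d := u * hB ^ i with hd
  set d' := v * x1 ^ j with hd'
  have hu' : u = d * hB ^ (5 - i) := by
    rw [hd, mul_assoc, ← pow_add, Nat.add_sub_cancel' hi.le, b_five, mul_one]
  have hv' : v = d' * x1 ^ (5 - j) := by
    rw [hd', mul_assoc, ← pow_add, Nat.add_sub_cancel' hj.le, x1_five, mul_one]
  have hfix : ∀ n < 16, θ (phiLy (tor n)) = phiLy (tor n) := by
    intro n hn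
    obtain ⟨n', hn', e⟩ := hT n hn
    obtain ⟨c1, c2, l1, l2⟩ := tor_chars hn
    obtain ⟨c1', c2', l1', l2'⟩ := tor_chars hn'
    have key : ∀ (y base : Hg) (k : ℕ) (χ : Hg → ℕ) (yimg : Hg), base ^ 5 = 1 → base ∉ D →
        (∀ z ∈ D, base * z * base⁻¹ ∈ D) → k % 5 ≠ 0 → y ∈ D → yimg = y * base ^ k →
        θ (phiLy base) = phiLy yimg →
        (tor n)⁻¹ * base * tor n = base ^ χ (tor n) → (tor n')⁻¹ * base * tor n' = base ^ χ (tor n') →
        χ (tor n) < 5 → χ (tor n') < 5 → χ (tor n) = χ (tor n') := by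
      intro y base k χ yimg h5 hnd hnorm hk hy hyi ey e1 e2 b1 b2
      have himg : (tor n')⁻¹ * yimg * tor n' = yimg ^ χ (tor n) := phiLy_injective (by
        rw [map_mul, map_mul, map_inv, map_pow, ← ey, ← e, ← map_inv θ, ← map_mul, ← map_mul, ← map_pow θ,
          ← map_pow, ← map_inv phiLy, ← map_mul, ← map_mul, e1])
      have hnD : (tor n')⁻¹ * y * tor n' ∈ D := by
        obtain ⟨y', hy', e'⟩ := (nk_of_normS (inv_mem (Tg_le_Bg ((mem_Tg _).2 ⟨n', hn', rfl⟩)))).pres_D hy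
        have : (tor n')⁻¹ * y * tor n' = y' := phiLy_injective (by
          rw [← e', map_mul, map_mul, map_inv]; simp [MulAut.conj_apply, map_inv])
        rw [this]; exact hy'
      have h1 := pow_mod_normal hnorm hy k (χ (tor n))
      rw [← hyi, ← himg, hyi] at h1
      have e3 : (tor n')⁻¹ * (y * base ^ k) * tor n' * (base ^ (k * χ (tor n)))⁻¹ =
          ((tor n')⁻¹ * y * tor n') * (base ^ (χ (tor n') * k) * (base ^ (k * χ (tor n)))⁻¹) := by
        rw [pow_mul base (χ (tor n')) k, ← e2,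
          show ((tor n')⁻¹ * base * tor n') ^ k = (tor n')⁻¹ * base ^ k * tor n' by
            simpa [inv_inv] using conj_pow (a := (tor n')⁻¹) (b := base) (i := k)]
        group
      rw [e3] at h1
      have h2 := mul_mem (inv_mem hnD) h1
      rw [inv_mul_cancel_left] at h2
      have h3 : (base ^ (k * χ (tor n)))⁻¹ = base ^ (4 * (k * χ (tor n))) :=
        inv_eq_of_mul_eq_one_right (by
          rw [← pow_add, show k * χ (tor n) + 4 * (k * χ (tor n)) = 5 * (k * χ (tor n)) by ring, pow_mul,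
            h5, one_pow])
      rw [h3, ← pow_add] at h2
      have h4 := five_of_pow_mem_D h5 hnd h2
      have : ∀ a < 5, ∀ b < 5, ∀ c < 5, c ≠ 0 → (a * c + 4 * (c * b)) % 5 = 0 → a = b := by decide
      refine (this _ b2 _ b1 (k % 5) (Nat.mod_lt _ (by norm_num)) hk ?_).symm
      rw [← h4]
      simp [Nat.add_mod, Nat.mul_mod]
    have hB1 : chiB n = chiB n' := by
      have := key d hB (5 - i) (fun t => if t = tor n then chiB n else chiB n') u b_five hB_not_D
        (fun z hz => (b_norm_D z hz).1) (by omega) hui hu' eu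
      by_cases hnn : tor n' = tor n
      · rw [tor_inj hn' hn hnn]
      · simp only [if_true, if_neg hnn] at this
        exact this c1 c1' l1 l1'
    have hX1 : chiX n = chiX n' := by
      have := key d' x1 (5 - j) (fun t => if t = tor n then chiX n else chiX n') v x1_five x1_not_D
        (fun z hz => (x1_norm_D z hz).1) (by omega) hvj hv' ev
      by_cases hnn : tor n' = tor n
      · rw [tor_inj hn' hn hnn]
      · simp only [if_true, if_neg hnn] at this
        exact this c2 c2' l2 l2'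
    rw [e, ← chars_inj hn hn' hB1 hX1]
  have hd1 : d = 1 := by
    refine (D_fix hui).1 ?_
    have hc : Commute hB (tor 4) := by
      show _ = _
      conv_rhs => rw [← fix_facts.1]
      group
    have hcu : Commute u (tor 4) := phiLy_injective (by
      rw [map_mul, map_mul, ← eu, ← hfix 4 (by norm_num), ← map_mul θ, ← map_mul θ, ← map_mul, ← map_mul,
        hc.eq])
    rw [hd]; exact hcu.mul_left (hc.pow_left i)
  have hd1' : d' = 1 := by
    refine (D_fix hvj).2 ?_
    have hc : Commute x1 (tor 5) := by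
      show _ = _
      conv_rhs => rw [← fix_facts.2]
      group
    have hcu : Commute v (tor 5) := phiLy_injective (by
      rw [map_mul, map_mul, ← ev, ← hfix 5 (by norm_num), ← map_mul θ, ← map_mul θ, ← map_mul, ← map_mul,
        hc.eq])
    rw [hd']; exact hcu.mul_left (hc.pow_left j)
  rw [hd1, one_mul] at hu'
  rw [hd1', one_mul] at hv'
  obtain ⟨n, hn, hχ⟩ := List.any_eq_true.1
    (allLt_spec (allLt_spec torus_onto (4 - i) (by omega)) (4 - j) (by omega))
  rw [List.mem_range] at hn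
  rw [Bool.and_eq_true] at hχ
  obtain ⟨c1, c2, -, -⟩ := tor_chars hn
  rw [Nat.eq_of_beq_eq_true hχ.1, show 4 - i + 1 = 5 - i by omega, ← hu'] at c1
  rw [Nat.eq_of_beq_eq_true hχ.2, show 4 - j + 1 = 5 - j by omega, ← hv'] at c2
  have hnT : tor n ∈ Tg := (mem_Tg _).2 ⟨n, hn, rfl⟩
  refine ⟨phiLy (tor n), ?_, ?_, fixS_mul (nk_of_normS (Tg_le_Bg hnT)) h⟩
  · have hb : (MulAut.conj (phiLy (tor n)) * θ) (phiLy hB) = phiLy hB := by
      show phiLy (tor n) * θ (phiLy hB) * (phiLy (tor n))⁻¹ = _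
      rw [eu, ← c1, ← map_inv, ← map_mul, ← map_mul]; exact congrArg phiLy (by group)
    have hx : (MulAut.conj (phiLy (tor n)) * θ) (phiLy x1) = phiLy x1 := by
      show phiLy (tor n) * θ (phiLy x1) * (phiLy (tor n))⁻¹ = _
      rw [ev, ← c2, ← map_inv, ← map_mul, ← map_mul]; exact congrArg phiLy (by group)
    set θ' := MulAut.conj (phiLy (tor n)) * θ
    have hw : ∀ l, ∀ x : Hg, enc x = bxCode l → θ' (phiLy x) = phiLy x := by
      intro l
      induction l with
      | nil =>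
        intro x e
        rw [enc_inj (e.trans enc_one.symm), map_one, map_one]
      | cons c l ih =>
        intro x e
        obtain ⟨g, hg, hfg⟩ : ∃ g : Hg, enc g = (bif Nat.beq c 0 then x1P else gB) ∧ θ' (phiLy g) = phiLy g := by
          cases Nat.beq c 0
          · exact ⟨hB, enc_B, hb⟩
          · exact ⟨x1, enc_x1, hx⟩
        have hrest : enc (g⁻¹ * x) = bxCode l := by
          have hl : ∀ l, ∃ y : Hg, enc y = bxCode l := by
            intro l
            induction l with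
            | nil => exact ⟨1, enc_one⟩
            | cons c l ih =>
              obtain ⟨y, hy⟩ := ih
              cases hc : Nat.beq c 0
              · exact ⟨hB * y, by rw [enc_mul, enc_B, hy, bxCode, hc]; rfl⟩
              · exact ⟨x1 * y, by rw [enc_mul, enc_x1, hy, bxCode, hc]; rfl⟩
          obtain ⟨y, hy⟩ := hl l
          have : x = g * y := enc_inj (by rw [e, enc_mul, hg, hy]; rfl)
          rw [this, inv_mul_cancel_left, hy]
        have := ih _ hrest
        rw [show x = g * (g⁻¹ * x) by group, map_mul, map_mul, hfg, this]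
    intro x hxS
    induction hxS using Subgroup.closure_induction with
    | mem g hg =>
      rcases hg with ⟨k, rfl⟩ | hg
      · refine hw (bxWords.getD k.1 []) _ ?_
        rw [enc_cg]
        exact (Nat.eq_of_beq_eq_true (allLt_spec bx_ok k.1 k.2)).symm
      · rw [Set.mem_singleton_iff.1 hg]; exact hb
    | one => rw [map_one, map_one]
    | mul a b _ _ ha hb' => rw [map_mul, map_mul, ha, hb']
    | inv a _ ha => rw [map_inv, map_inv, ha]
  · intro m hm
    show phiLy (tor n) * θ (phiLy (tor m)) * (phiLy (tor n))⁻¹ = _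
    rw [hfix m hm, ← map_mul, (Tg_comm hnT ((mem_Tg _).2 ⟨m, hm, rfl⟩)).eq, map_mul, mul_inv_cancel_right]

theorem fix_P1 {θ : MulAut Cfsg.Spor.Ly} (hS : ∀ x ∈ S, θ (phiLy x) = phiLy x)
    (hT : θ (phiLy (tor 4)) = phiLy (tor 4)) (h : FixS θ) :
    ∀ x ∈ P1, θ (phiLy x) = phiLy x := by
  suffices hA1 : θ (phiLy hA) = phiLy hA by
    rw [Pg_eq]
    intro x hx
    induction hx using Subgroup.closure_induction with
    | mem g hg =>
      simp only [Set.mem_insert_iff, Set.mem_singleton_iff] at hg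
      rcases hg with rfl | rfl | rfl
      · exact hA1
      · exact hS _ hB_mem_S
      · exact hS _ (Q1_le_S (cg_mem 0))
    | one => rw [map_one, map_one]
    | mul a b _ _ ha hb => rw [map_mul, map_mul, ha, hb]
    | inv a _ ha => rw [map_inv, map_inv, ha]
  obtain ⟨a', ha', e⟩ := pres_P1_aut hex h A_mem_P1
  set δ := hA⁻¹ * a' with hδ
  have hcomm : ∀ x ∈ Q1, δ * x * δ⁻¹ = x := by
    intro x hx
    have h1 := hS _ (Q1_le_S ((conj_Q1 A_mem_P1 x hx).2))
    rw [map_mul, map_mul, map_inv, map_mul, map_mul, map_inv, e] at h1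
    have h2 : phiLy hA * phiLy x * (phiLy hA)⁻¹ = phiLy a' * phiLy x * (phiLy a')⁻¹ := by
      rw [← h1, hS _ (Q1_le_S hx)]
    rw [← map_inv, ← map_inv, ← map_mul, ← map_mul, ← map_mul, ← map_mul] at h2
    have h3 := phiLy_injective h2
    rw [hδ, show hA⁻¹ * a' * x * (hA⁻¹ * a')⁻¹ = hA⁻¹ * (a' * x * a'⁻¹) * hA by group, ← h3]
    group
  obtain ⟨q, hq, m, L, hL, i, hi, hqm, hm, hmP⟩ := P1_split (mul_mem (inv_mem A_mem_P1) ha')
  rw [← hδ] at hqm
  have hmQ : m ∈ Q1 := by
    rw [mem_Q1, hm]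
    have hc := allLt_spec (allLt_spec centQ1_checks L hL) i hi
    simp only [centQ1Check, Bool.or_eq_true, Bool.not_eq_true'] at hc
    refine hc.resolve_left fun hf => ?_
    have : allLt (fun g => inZ (mulP (mulP (mulP (leviP L i) (sEl g)) (invP (leviP L i))) (invP (sEl g)))) 4 = true := by
      have key : ∀ g : Fin 5, inZ (mulP (mulP (mulP (leviP L i) (sEl g.1)) (invP (leviP L i))) (invP (sEl g.1))) = true := by
        intro g
        rw [← enc_cg, ← hm, ← enc_inv, ← enc_inv, ← enc_mul, ← enc_mul, ← enc_mul, ← mem_Z]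
        have h1 := hcomm (cg g) (cg_mem g)
        rw [hqm] at h1
        have h2 : m * cg g * m⁻¹ * (cg g)⁻¹ = cmt q (cg g)⁻¹ := by
          simp only [cmt, inv_inv]
          rw [show m * cg g * m⁻¹ = q⁻¹ * (q * m * cg g * (q * m)⁻¹) * q by group, h1]
          group
        rw [h2]; exact cmt_Q1 _ hq _ (inv_mem (cg_mem g))
      simp only [allLt, Bool.true_and, Bool.and_eq_true]
      exact ⟨⟨⟨key 0, key 1⟩, key 2⟩, key 3⟩
    rw [this] at hf; exact Bool.noConfusion hf
  have hδZ : δ ∈ Z := comm_Q1_Z (hqm ▸ mul_mem hq hmQ) fun g => mul_inv_eq_iff_eq_mul.1 (hcomm _ (cg_mem g))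
  obtain ⟨k, hk, hδk⟩ : ∃ k < 5, δ = cg 4 ^ k := by
    have hz := (mem_Z δ).1 hδZ
    rw [inZ, Bool.and_eq_true, Bool.and_eq_true] at hz
    obtain ⟨a, ha, b, hb, ii, hii, j, hj, mm, hmm, e'⟩ := qel_of_inU hz.1
    rw [e'] at hz
    obtain ⟨-, p1, p2⟩ := qel_parts ha hb hii hj hmm
    rw [p1, p2] at hz
    have z1 := Nat.eq_of_beq_eq_true hz.2.1
    have z2 := Nat.eq_of_beq_eq_true hz.2.2
    obtain ⟨rfl, rfl⟩ : a = 0 ∧ b = 0 := by omega
    obtain ⟨rfl, rfl⟩ : ii = 0 ∧ j = 0 := by omega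
    exact ⟨mm, hmm, by rw [e']; simp [qel]⟩
  have hsq : (hA * cg 4 ^ k) ^ 2 = hA ^ 2 := by
    refine phiLy_injective ?_
    rw [← hδk, hδ, mul_inv_cancel_left, map_pow, ← e, ← map_pow, ← map_pow]
    simpa [tor] using hT
  have hc := allLt_spec a_fix k hk
  simp only [Bool.and_eq_true, Bool.or_eq_true, Bool.not_eq_true'] at hc
  have h0 : k = 0 := by
    refine Nat.eq_of_beq_eq_true (hc.1.resolve_left fun hf => ?_)
    rw [show powP (mulP gA (powP (sEl 4) k)) 2 = powP gA 2 by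
      rw [← enc_A, show sEl 4 = enc (cg 4) from (enc_cg 4).symm, ← enc_pow, ← enc_mul, ← enc_pow, hsq, enc_pow],
      Nat.beq_refl] at hf
    exact Bool.noConfusion hf
  rw [e, show a' = hA * δ by rw [hδ, mul_inv_cancel_left], hδk, h0, pow_zero, mul_one]

theorem fix_e {θ : MulAut Cfsg.Spor.Ly} (hP : ∀ x ∈ P1, θ (phiLy x) = phiLy x) :
    θ (phiLy eH) = phiLy eH := by
  have he2 : eH * eH = 1 := by
    have h := eP_facts
    simp only [Bool.and_eq_true] at h
    exact enc_inj (by rw [enc_mul, enc_eH, enc_one]; exact Nat.eq_of_beq_eq_true h.1.1.1)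
  have hei : eH⁻¹ = eH := inv_eq_of_mul_eq_one_right he2
  have hnorm : ∀ x ∈ Q2, eH⁻¹ * x * eH ∈ Q2 := fun x hx => by
    refine (conj_mem_closure ?_ x hx).1
    have h := eP_facts
    simp only [Bool.and_eq_true] at h
    intro g hg
    rw [← Q2, mem_Q2, enc_conj, enc_eH]
    have hl := List.all_eq_true.1 h.1.2.1
    simp only [dGens, Set.mem_union, Set.mem_insert_iff, Set.mem_singleton_iff] at hg
    rcases hg with (rfl | rfl | rfl | rfl) | rfl
    · rw [enc_cg]; exact hl 0 (by simp)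
    · rw [enc_cg]; exact hl 2 (by simp)
    · rw [enc_cg]; exact hl 3 (by simp)
    · rw [enc_cg]; exact hl 4 (by simp)
    · rw [enc_B]; exact h.1.1.2
  have hfix2 : ∀ x ∈ Q2, θ (phiLy x) = phiLy x := fun x hx => hP x (Q2_le_P1 hx)
  have hmem : θ (phiLy eH) ∈ HL := norm_Q2 hex fun x hx => by
    refine ⟨eH⁻¹ * x * eH, hnorm x hx, ?_⟩
    rw [← hfix2 _ (hnorm x hx)]
    conv_rhs => rw [← hfix2 x hx]
    rw [← map_inv θ, ← map_mul, ← map_mul, ← map_inv, ← map_mul, ← map_mul]
    exact congrArg (fun t => θ (phiLy t)) (by rw [hei])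
  obtain ⟨e', he'⟩ := exists_of_mem hmem
  set δ := eH⁻¹ * e' with hδ
  have hcomm : ∀ x ∈ Q2, δ * x = x * δ := by
    intro x hx
    have h1 := hfix2 _ (hnorm x hx)
    rw [hei, map_mul, map_mul, map_mul, map_mul, ← he', hfix2 x hx, ← map_mul, ← map_mul, ← map_mul,
      ← map_mul] at h1
    have h2 := phiLy_injective h1
    have he'2 : e' * e' = 1 := phiLy_injective (by
      rw [map_mul, he', ← map_mul, ← map_mul, he2, map_one, map_one])
    rw [hδ, hei]
    calc eH * e' * x = eH * (e' * x * e') * e' := by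
          simp only [mul_assoc]; rw [he'2, mul_one]
      _ = eH * (eH * x * eH) * e' := by rw [h2]
      _ = x * (eH * e') := by
          simp only [mul_assoc]; rw [← mul_assoc eH eH, he2, one_mul]
  have hδ2 : ∀ x ∈ Q2, δ * x * δ⁻¹ ∈ Q2 := fun x hx => by rw [hcomm x hx, mul_inv_cancel_right]; exact hx
  have hδP : δ ∈ P1 := by
    refine (norm_Q2_cases hδ2).resolve_right ?_
    rintro ⟨s, hs, k, hk, es⟩
    have h := eP_facts
    simp only [Bool.and_eq_true] at h
    have hne := allLt_spec h.1.2.2 k hk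
    have hz : cg 4 ∈ Z := Subgroup.subset_closure rfl
    have hzQ : cg 4 ∈ Q2 := Subgroup.subset_closure (Or.inl (by simp [dGens]))
    have h1 : s⁻¹ * cg 4 * s ∈ Z := by
      refine comm_Q1_Z ((conj_Q1 hs _ (Z_le_Q1 hz)).1) fun g => ?_
      have h2 := (W_central_Q1 hz (conj_Q1 hs _ (cg_mem g)).2).map (MulAut.conj s⁻¹).toMonoidHom
      simpa [MulAut.conj_apply, mul_assoc] using h2.symm
    have h2 : s⁻¹ * cg 4 * s = eH * cg 1 ^ k * cg 4 * (eH * cg 1 ^ k)⁻¹ := by
      have := hcomm _ hzQ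
      rw [es] at this
      rw [show s⁻¹ * cg 4 * s = s⁻¹ * (cg 4 * (s * (eH * cg 1 ^ k))) * (eH * cg 1 ^ k)⁻¹ by group, ← this]
      group
    rw [h2, mem_Z] at h1
    have h3 : enc (eH * cg 1 ^ k * cg 4 * (eH * cg 1 ^ k)⁻¹) =
        cnj (sEl 4) (invP (mulP eP (powP (sEl 1) k))) := by
      rw [show sEl 1 = enc (cg 1) from (enc_cg 1).symm, ← enc_pow, ← enc_eH, ← enc_mul, ← enc_inv, show sEl 4 = enc (cg 4) from (enc_cg 4).symm,
        ← enc_conj, inv_inv]
    rw [h3] at h1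
    simp [h1] at hne
  obtain ⟨q, hq, m, L, hL, i, hi, hqm, hm, hmP⟩ := P1_split hδP
  have hmS : m ∈ S := by
    rw [mem_S, hm]
    have hc := allLt_spec (allLt_spec centQ2_checks L hL) i hi
    simp only [centQ2Check, Bool.or_eq_true, Bool.not_eq_true'] at hc
    refine hc.resolve_left fun hf => ?_
    have hb : m * hB * m⁻¹ * hB⁻¹ ∈ Q1 := by
      have h1 := hcomm hB (Subgroup.subset_closure (Or.inr rfl))
      rw [hqm] at h1
      have h2 : m * hB * m⁻¹ * hB⁻¹ = q⁻¹ * (hB * q * hB⁻¹) := by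
        rw [show m * hB * m⁻¹ * hB⁻¹ = q⁻¹ * (q * m * hB) * m⁻¹ * hB⁻¹ by group, h1]; group
      rw [h2]; exact mul_mem (inv_mem hq) (conj_Q1 B_mem_P1 q hq).2
    have key : ∀ g : Fin 5, cg g ∈ dGens → inZ (mulP (mulP (mulP (leviP L i) (sEl g.1)) (invP (leviP L i))) (invP (sEl g.1))) = true := by
      intro g hg
      rw [← enc_cg, ← hm, ← enc_inv, ← enc_inv, ← enc_mul, ← enc_mul, ← enc_mul, ← mem_Z]
      have h1 := hcomm (cg g) (Subgroup.subset_closure (Or.inl hg))
      rw [hqm] at h1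
      have h2 : m * cg g * m⁻¹ * (cg g)⁻¹ = cmt q (cg g)⁻¹ := by
        simp only [cmt, inv_inv]
        rw [show m * cg g * m⁻¹ * (cg g)⁻¹ = q⁻¹ * (q * m * cg g) * m⁻¹ * (cg g)⁻¹ by group, h1]; group
      rw [h2]; exact cmt_Q1 _ hq _ (inv_mem (cg_mem g))
    rw [mem_Q1, enc_mul, enc_mul, enc_mul, enc_inv, enc_inv, hm, enc_B] at hb
    simp [hb] at hf
    have e0 := key 0 (by simp [dGens]); have e2 := key 2 (by simp [dGens]); have e3 := key 3 (by simp [dGens])
    simp_all
  have hδS : δ ∈ S := hqm ▸ mul_mem (Q1_le_S hq) hmS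
  have hcb := hcomm hB (Subgroup.subset_closure (Or.inr rfl))
  have hW : δ ∈ W := (scan_spec hδS).2.2.2.2 hcb
    (hcomm _ (Subgroup.subset_closure (Or.inl (by simp [dGens]))))
    (hcomm _ (Subgroup.subset_closure (Or.inl (by simp [dGens]))))
    (hcomm _ (Subgroup.subset_closure (Or.inl (by simp [dGens]))))
  have ht35 : Commute δ (eH * hA ^ 2 * eH) := by
    have hmemP : eH * hA ^ 2 * eH ∈ P1 := mem_P1_of_inPar (by
      have h := eP_facts
      simp only [Bool.and_eq_true] at h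
      rw [enc_mul, enc_mul, enc_eH, enc_pow, enc_A]; exact h.2)
    have h1 := hP _ hmemP
    rw [map_mul, map_mul, map_mul, map_mul, ← he', hP _ (pow_mem A_mem_P1 2), ← map_mul, ← map_mul,
      ← map_mul, ← map_mul] at h1
    have h2 := phiLy_injective h1
    have he'2 : e' * e' = 1 := phiLy_injective (by
      rw [map_mul, he', ← map_mul, ← map_mul, he2, map_one, map_one])
    show δ * (eH * hA ^ 2 * eH) = eH * hA ^ 2 * eH * δ
    conv_lhs => rw [← h2]
    rw [hδ, hei]
    calc eH * e' * (e' * hA ^ 2 * e') = eH * (e' * e') * hA ^ 2 * e' := by group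
      _ = eH * hA ^ 2 * (eH * eH) * e' := by rw [he'2, he2, mul_one, mul_one]
      _ = _ := by group
  obtain ⟨a, ha, mm, hmm, eW⟩ := (inW_iff_qel δ).1 ((mem_W δ).1 hW)
  have hc := allLt_spec (allLt_spec centre_fix a ha) mm hmm
  simp only [Bool.or_eq_true, Bool.not_eq_true'] at hc
  have h1 : δ = 1 := by
    refine enc_inj ?_
    rw [eW, enc_one, enc_qel ha (by norm_num) (by omega) (by omega) hmm]
    refine Nat.eq_of_beq_eq_true (hc.resolve_left fun hf => ?_)
    rw [← enc_qel ha (by norm_num) (by omega) (by omega) hmm, ← eW, ← enc_A, ← enc_pow, ← enc_eH,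
      ← enc_mul, ← enc_mul, (com_iff _ _).2 ht35] at hf
    exact Bool.noConfusion hf
  rw [← he', show e' = eH * δ by rw [hδ, mul_inv_cancel_left], h1, mul_one]

theorem fix_tz {θ : MulAut Cfsg.Spor.Ly} (hP : ∀ x ∈ P1, θ (phiLy x) = phiLy x) : θ tz = tz := by
  set δ := θ tz * tz⁻¹ with hδ
  have hC : ∀ c ∈ Cgrp, δ * phiLy c = phiLy c * δ := by
    intro c hc
    obtain ⟨d, hd, hde⟩ := (tz_conj_C hex hc).2
    have h1 := hP d (cset_le_P1 hd)
    rw [← hde, map_mul, map_mul, map_inv, hP c (cset_le_P1 hc)] at h1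
    -- θ tz and tz move c to the same element
    have hcc : ∀ x : Hg, x ∈ Cgrp → θ tz⁻¹ * phiLy x * θ tz = tz⁻¹ * phiLy x * tz := by
      intro x hx
      obtain ⟨d', hd', hde'⟩ := (tz_conj_C hex hx).1
      have := hP d' (cset_le_P1 hd')
      rw [← hde', map_mul, map_mul, hP x (cset_le_P1 hx)] at this
      exact this
    have h2 := hcc c hc
    rw [map_inv] at h2
    rw [hδ]
    calc θ tz * tz⁻¹ * phiLy c = θ tz * (tz⁻¹ * phiLy c * tz) * tz⁻¹ := by group
      _ = θ tz * ((θ tz)⁻¹ * phiLy c * θ tz) * tz⁻¹ := by rw [h2]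
      _ = phiLy c * (θ tz * tz⁻¹) := by group
  have hQ : ∀ x ∈ Q1, δ * phiLy x * δ⁻¹ = phiLy x := fun x hx => by
    rw [hC x (cset_of_Q1 hx), mul_inv_cancel_right]
  obtain ⟨p, hp, ep⟩ := pres_P1 hex (g := δ) (fun x hx => ⟨x, hx, (hQ x hx).symm⟩) fun x hx =>
    ⟨x, hx, by rw [mul_assoc, ← hC x (cset_of_Q1 (OSet_le hx)), inv_mul_cancel_left]⟩
  have hcomm : ∀ x ∈ Cgrp, p * x = x * p := fun x hx => phiLy_injective (by
    rw [map_mul, map_mul, ← ep]; exact hC x hx)
  obtain ⟨q, hq, m, L, hL, i, hi, hqm, hm, hmP⟩ := P1_split hp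
  have hmQ : m ∈ Q1 := by
    rw [mem_Q1, hm]
    have hc := allLt_spec (allLt_spec centQ1_checks L hL) i hi
    simp only [centQ1Check, Bool.or_eq_true, Bool.not_eq_true'] at hc
    refine hc.resolve_left fun hf => ?_
    have key : ∀ g : Fin 5, inZ (mulP (mulP (mulP (leviP L i) (sEl g.1)) (invP (leviP L i))) (invP (sEl g.1))) = true := by
      intro g
      rw [← enc_cg, ← hm, ← enc_inv, ← enc_inv, ← enc_mul, ← enc_mul, ← enc_mul, ← mem_Z]
      have h1 := hcomm (cg g) (cset_of_Q1 (cg_mem g))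
      rw [hqm] at h1
      have h2 : m * cg g * m⁻¹ * (cg g)⁻¹ = cmt q (cg g)⁻¹ := by
        simp only [cmt, inv_inv]
        rw [show m * cg g * m⁻¹ * (cg g)⁻¹ = q⁻¹ * (q * m * cg g) * m⁻¹ * (cg g)⁻¹ by group, h1]; group
      rw [h2]; exact cmt_Q1 _ hq _ (inv_mem (cg_mem g))
    have hall : allLt (fun g => inZ (mulP (mulP (mulP (leviP L i) (sEl g)) (invP (leviP L i))) (invP (sEl g)))) 4 = true := by
      simp only [allLt, Bool.true_and, Bool.and_eq_true]
      exact ⟨⟨⟨key 0, key 1⟩, key 2⟩, key 3⟩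
    rw [hall] at hf; exact Bool.noConfusion hf
  have hpQ : p ∈ Q1 := hqm ▸ mul_mem hq hmQ
  have hpZ : p ∈ Z := comm_Q1_Z hpQ fun g => hcomm _ (cset_of_Q1 (cg_mem g))
  have hz := (mem_Z p).1 hpZ
  rw [inZ, Bool.and_eq_true, Bool.and_eq_true] at hz
  obtain ⟨a, ha, b, hb, ii, hii, j, hj, mm, hmm, e'⟩ := qel_of_inU hz.1
  rw [e'] at hz
  obtain ⟨-, p1, p2⟩ := qel_parts ha hb hii hj hmm
  rw [p1, p2] at hz
  have z1 := Nat.eq_of_beq_eq_true hz.2.1
  have z2 := Nat.eq_of_beq_eq_true hz.2.2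
  obtain ⟨rfl, rfl⟩ : a = 0 ∧ b = 0 := by omega
  obtain ⟨rfl, rfl⟩ : ii = 0 ∧ j = 0 := by omega
  have hpk : p = cg 4 ^ mm := by rw [e']; simp [qel]
  have hA_C : hA ∈ Cgrp := mem_Cset_of_inC (by rw [enc_A]; decide +kernel)
  have hc := allLt_spec a_fix mm hmm
  simp only [Bool.and_eq_true, Bool.or_eq_true, Bool.not_eq_true'] at hc
  have h0 : mm = 0 := by
    refine Nat.eq_of_beq_eq_true (hc.2.resolve_left fun hf => ?_)
    rw [show sEl 4 = enc (cg 4) from (enc_cg 4).symm, ← enc_pow, ← enc_A,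
      (com_iff _ _).2 (show Commute (cg 4 ^ mm) hA by rw [← hpk]; exact hcomm _ hA_C)] at hf
    exact Bool.noConfusion hf
  rw [hpk, h0, pow_zero, map_one, hδ, mul_inv_eq_one] at ep
  exact ep

theorem inner_of_exact [Finite Cfsg.Spor.Ly] (hcard : Nat.card Cfsg.Spor.Ly = 51765179004000000)
    (θ : MulAut Cfsg.Spor.Ly) : θ ∈ (MulAut.conj : Cfsg.Spor.Ly →* MulAut Cfsg.Spor.Ly).range := by
  obtain ⟨g1, h1⟩ := exists_fixS hcard θ
  obtain ⟨g2, h2, hT⟩ := exists_fixT hex h1
  obtain ⟨g3, hS, hT3, h3⟩ := exists_fix_frame hex h2 hT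
  set θ' := MulAut.conj g3 * (MulAut.conj g2 * (MulAut.conj g1 * θ)) with hθ'
  have hP := fix_P1 hex hS (hT3 4 (by norm_num)) h3
  have he := fix_e hex hP
  have hz := fix_tz hex hP
  have hd : θ' (phiLy hD) = phiLy hD := by
    have hfix : ∀ x : Hg, x ∈ Subgroup.closure ({hA, hB, cg 1, cg 3, cg 4, hC, eH} : Set Hg) → θ' (phiLy x) = phiLy x := by
      intro x hx
      induction hx using Subgroup.closure_induction with
      | mem g hg =>
        simp only [Set.mem_insert_iff, Set.mem_singleton_iff] at hg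
        rcases hg with rfl | rfl | rfl | rfl | rfl | rfl | rfl
        exacts [hP _ A_mem_P1, hP _ B_mem_P1, hP _ (Q1_le_P1 (cg_mem 1)), hP _ (Q1_le_P1 (cg_mem 3)),
          hP _ (Q1_le_P1 (cg_mem 4)), hP _ C_mem_P1, he]
      | one => rw [map_one, map_one]
      | mul a b _ _ ha hb => rw [map_mul, map_mul, ha, hb]
      | inv a _ ha => rw [map_inv, map_inv, ha]
    refine hfix _ ?_
    have e : hD = hA * hB ^ 2 * hA⁻¹ * hB⁻¹ * hC⁻¹ * (cg 3)⁻¹ * (cg 4)⁻¹ * hA * eH * hA * eH * hA *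
        (cg 1)⁻¹ * hB * eH := by
      refine enc_inj ?_
      simp only [enc_mul, enc_inv, enc_pow, enc_A, enc_B, enc_C, enc_D, enc_eH, enc_cg]
      exact Nat.eq_of_beq_eq_true d_word
    rw [e]
    have m : ∀ {g}, g ∈ ({hA, hB, cg 1, cg 3, cg 4, hC, eH} : Set Hg) →
        g ∈ Subgroup.closure ({hA, hB, cg 1, cg 3, cg 4, hC, eH} : Set Hg) := fun h => Subgroup.subset_closure h
    have a := m (show hA ∈ _ by simp)
    have b := m (show hB ∈ _ by simp)
    have c := m (show hC ∈ _ by simp)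
    have e0 := m (show eH ∈ _ by simp)
    have c1 := m (show cg 1 ∈ _ by simp)
    have c3 := m (show cg 3 ∈ _ by simp)
    have c4 := m (show cg 4 ∈ _ by simp)
    exact mul_mem (mul_mem (mul_mem (mul_mem (mul_mem (mul_mem (mul_mem (mul_mem (mul_mem (mul_mem (mul_mem
      (mul_mem (mul_mem (mul_mem a (pow_mem b 2)) (inv_mem a)) (inv_mem b)) (inv_mem c)) (inv_mem c3))
      (inv_mem c4)) a) e0) a) e0) a) (inv_mem c1)) b) e0
  have hid : θ' = 1 := by
    refine MulEquiv.ext fun x => ?_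
    have hx : x ∈ Subgroup.closure ({LyCover50.lg .a, LyCover50.lg .b, LyCover50.lg .c, LyCover50.lg .d,
        LyCover50.lg .z} : Set Cfsg.Spor.Ly) := by rw [LyCover50.ly_closure]; trivial
    show θ' x = x
    induction hx using Subgroup.closure_induction with
    | mem g hg =>
      simp only [Set.mem_insert_iff, Set.mem_singleton_iff] at hg
      rcases hg with rfl | rfl | rfl | rfl | rfl
      · rw [← phiLy_A]; exact hP _ A_mem_P1
      · rw [← phiLy_B]; exact hP _ B_mem_P1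
      · rw [← phiLy_C]; exact hP _ C_mem_P1
      · rw [← phiLy_D]; exact hd
      · exact hz
    | one => rw [map_one]
    | mul a b _ _ ha hb => rw [map_mul, ha, hb]
    | inv a _ ha => rw [map_inv, ha]
  refine ⟨(g3 * g2 * g1)⁻¹, ?_⟩
  rw [map_inv, map_mul, map_mul]
  refine inv_eq_of_mul_eq_one_right ?_
  rw [← hid, hθ']; simp only [mul_assoc]

end Exact

/-- The outer automorphism group is trivial, given the order. -/
theorem card_out_of_card (hcard : Nat.card Cfsg.Spor.Ly = 51765179004000000) :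
    Nat.card (MulAut Cfsg.Spor.Ly ⧸ (MulAut.conj : Cfsg.Spor.Ly →* MulAut Cfsg.Spor.Ly).range) = 1 := by
  haveI : Finite Cfsg.Spor.Ly := Nat.finite_of_card_ne_zero (by rw [hcard]; norm_num)
  have hex : HL.index = 8835156 := by
    have h := HL.card_mul_index
    rw [hcard, show Nat.card HL = 5859000000 from Ly95.card_abcd] at h
    omega
  rw [← Subgroup.index, Subgroup.index_eq_one, eq_top_iff]
  exact fun θ _ => inner_of_exact hex hcard θ

end CfsgLib.LyAut84
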